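import Cfsg.Agent.H869.S5.C2
import Cfsg.Agent.H957.S5Psl4

/-!
# S2274: the cross characteristic strong row of `PSL_n(F)`, `n ≥ 3` (C1 of helper957 and C2)
-/

set_option autoImplicit false

universe u

namespace Cfsg.Agent.H869.S5

open Cfsg.Agent.H957.T5V Cfsg.Agent.H533.T5 Cfsg.Agent.H132.S5

/-- **C2, in the form wanted by `H957.S5.srow_psl_cross_of`.** -/
theorem c2_hyp {F : Type} [Field F] [Fintype F] {n p : ℕ} (hp : p.Prime) (hp5 : 5 ≤ p)
    (hF : ¬ p ∣ Fintype.card F) (hn : n = p)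
    (hrow : SRow p (Matrix.ProjectiveSpecialLinearGroup (Fin 2) F))
    (c d : Equiv.Perm (Fin n → F)) (l : F) (τ : F ≃+* F) (hc : Semi (1 : F ≃+* F) c)
    (hcl : ∀ v, (c ^ p) v = l • v) (hl : ∀ t : F, t ^ p ≠ l) (hd : Semi τ d)
    (hdp : IsScal F (d ^ p)) (hdn : ¬ IsScal F d) :
    BV F p c d ∧ (AV F c d ∨ ∃ g : (Fin n → F) ≃ₗ[F] (Fin n → F), LinearEquiv.det g = 1 ∧
      ∃ j : ℕ, Scl F ((toA g * d * (toA g)⁻¹) ^ j) c) := by
  have hpF : (p : F) ≠ 0 := by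
    intro h0
    apply hF
    have h1 : ringChar F ∣ p := (ringChar.spec F p).1 h0
    have h2 : ringChar F = p := ((Nat.dvd_prime hp).1 h1).resolve_left (CharP.ringChar_ne_one)
    rw [← h2]
    obtain ⟨n, -, hn⟩ := FiniteField.card F (ringChar F)
    rw [hn]
    exact dvd_pow_self _ n.ne_zero
  exact (c2_main hp hp5 (by rw [Module.finrank_fintype_fun_eq_card, Fintype.card_fin, hn]) hpF hrow
    hc hl hcl hd hdp hdn).symm

/-- **The cross characteristic strong row of `PSL_n(F)`, `n ≥ 3`.** -/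
theorem srow_psl_cross {F : Type} [Field F] [Fintype F] {n p : ℕ} (hp : p.Prime)
    (hp5 : 5 ≤ p) (hF : ¬ p ∣ Fintype.card F) (B : SBox.{u} p) {S : Type u} [Group S] [Finite S]
    (hb : SBelow.{u} p (Nat.card S)) (hn : 3 ≤ n)
    (e : S ≃* Matrix.ProjectiveSpecialLinearGroup (Fin n) F) : SRow p S :=
  Cfsg.Agent.H957.S5.srow_psl_cross_of hp hp5 hF B hb hn e
    (fun hnp _ hrow c d l τ hc hcl hl hd hdp hdn =>
      c2_hyp hp hp5 hF hnp hrow c d l τ hc hcl hl hd hdp hdn)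

end Cfsg.Agent.H869.S5
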