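import Cfsg.Agent.H957.T5Main
import Cfsg.Agent.H957.T5Tr
import Cfsg.Agent.H132.S5.Pairs

/-!
# The two halves of the strong pair predicate for semilinear maps (S2274)

`AV F c d` : for some `g ∈ SL(V)` the group `⟨c, g d g⁻¹⟩` is not solvable.
`BV F p c d` : for some `g ∈ SL(V)` no `p`-power of `c * (g d g⁻¹)` is a scalar.
-/

set_option autoImplicit false

namespace Cfsg.Agent.H869.S5

open Cfsg.Agent.H957.T5V Cfsg.Agent.H957.T5Conf Cfsg.Agent.H957.T5Pairs
open Cfsg.Agent.H903.SylSemi (Ind scal scal_apply)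

section sup

variable {G : Type*} [Group G]

theorem solvable_sup' (H N : Subgroup G) (hHN : H ≤ Subgroup.normalizer (N : Set G))
    (hH : Group.IsSolvable H) (hN : Group.IsSolvable N) : Group.IsSolvable (H ⊔ N : Subgroup G) := by
  have i1 := Subgroup.normal_subgroupOf_of_le_normalizer hHN
  have i2 := Subgroup.normal_subgroupOf_sup_of_le_normalizer hHN
  have e := QuotientGroup.quotientInfEquivProdNormalizerQuotient H N hHN
  have h1 : Group.IsSolvable (H ⧸ N.subgroupOf H) :=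
    Group.isSolvable_of_surjective (f := QuotientGroup.mk' (N.subgroupOf H))
      (QuotientGroup.mk'_surjective _)
  have h2 : Group.IsSolvable ((H ⊔ N : Subgroup G) ⧸ N.subgroupOf (H ⊔ N)) :=
    Group.isSolvable_of_surjective (f := e.toMonoidHom) e.surjective
  refine Group.isSolvable_of_ker_le_range (Subgroup.inclusion (le_sup_right : N ≤ H ⊔ N))
    (QuotientGroup.mk' (N.subgroupOf (H ⊔ N))) ?_
  intro x hx
  rw [QuotientGroup.ker_mk', Subgroup.mem_subgroupOf] at hx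
  exact ⟨⟨x, hx⟩, rfl⟩

end sup

variable {F V : Type*} [Field F] [AddCommGroup V] [Module F V]

variable (F) in
/-- Some `SL(V)`-conjugate of `d` generates with `c` a non-solvable group. -/
def AV (c d : Equiv.Perm V) : Prop :=
  ∃ g : V ≃ₗ[F] V, LinearEquiv.det g = 1 ∧
    ¬ Group.IsSolvable ↥(Subgroup.closure ({c, toA g * d * (toA g)⁻¹} : Set (Equiv.Perm V)))

variable (F) in
/-- For some `SL(V)`-conjugate `d'` of `d` no `p`-power of `c * d'` is a scalar. -/
def BV (p : ℕ) (c d : Equiv.Perm V) : Prop :=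
  ∃ g : V ≃ₗ[F] V, LinearEquiv.det g = 1 ∧ ∀ k : ℕ,
    ¬ IsScal F ((c * (toA g * d * (toA g)⁻¹)) ^ p ^ k)

variable {p : ℕ} {σ τ : F ≃+* F} {c d c' d' : Equiv.Perm V}

/-! ### `BV` -/

theorem BV.middle (h : BV F p c d) : MP F p c d := by
  obtain ⟨g, hg, h⟩ := h
  exact ⟨g, hg, 1, 1, fun k => by rw [pow_one, pow_one]; exact h k⟩

theorem scl_conj (hd : Semi τ d) (hdd : Scl F d' d) (g : V ≃ₗ[F] V) :
    Scl F (toA g * d' * (toA g)⁻¹) (toA g * d * (toA g)⁻¹) :=
  Scl.mul ((semi_toA g).mul hd) (Scl.mul (semi_toA g) (Scl.refl _) hdd) (Scl.refl _)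

theorem BV.of_scl (hc : Semi σ c) (hd : Semi τ d) (hcc : Scl F c' c) (hdd : Scl F d' d)
    (h : BV F p c' d') : BV F p c d := by
  obtain ⟨g, hg, h⟩ := h
  refine ⟨g, hg, fun k hk => h k ?_⟩
  have h2 : Scl F (c' * (toA g * d' * (toA g)⁻¹)) (c * (toA g * d * (toA g)⁻¹)) :=
    Scl.mul hc hcc (scl_conj hd hdd g)
  exact ((h2.pow (hc.mul (hd.conj g)) _).isScal_iff).2 hk

theorem BV.symm (hc : Semi σ c) (h : BV F p c d) : BV F p d c := by
  obtain ⟨g, hg, h⟩ := h
  refine ⟨g⁻¹, by rw [map_inv, hg, inv_one], fun m hm => h m ?_⟩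
  have h1 : c * (toA g * d * (toA g)⁻¹)
      = (toA g * (toA g⁻¹ * c * (toA g⁻¹)⁻¹)) * (d * (toA g⁻¹ * c * (toA g⁻¹)⁻¹))
        * (toA g * (toA g⁻¹ * c * (toA g⁻¹)⁻¹))⁻¹ := by
    rw [map_inv]
    group
  rw [h1, conj_pow]
  exact isScal_conj ((semi_toA g).mul (hc.conj g⁻¹)) hm

theorem BV.conj_right {s : V ≃ₗ[F] V} (hs : LinearEquiv.det s = 1)
    (h : BV F p c (toA s * d * (toA s)⁻¹)) : BV F p c d := by
  obtain ⟨g, hg, h⟩ := h
  refine ⟨g * s, by rw [map_mul, hg, hs, mul_one], fun k hk => h k ?_⟩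
  have h1 : toA g * (toA s * d * (toA s)⁻¹) * (toA g)⁻¹ = toA (g * s) * d * (toA (g * s))⁻¹ := by
    rw [map_mul]; group
  rwa [h1]

/-- From `GL` to `SL`. -/
theorem BV.of_gl (hc : FullDet F c ∨ FullDet F d) {g : V ≃ₗ[F] V} (h : ∀ k : ℕ,
    ¬ IsScal F ((c * (toA g * d * (toA g)⁻¹)) ^ p ^ k)) : BV F p c d := by
  rcases hc with hc | hd
  · obtain ⟨z, hz, hzc⟩ := hc ((LinearEquiv.det g)⁻¹)
    refine ⟨z * g, by rw [map_mul, hz, inv_mul_cancel], fun k hk => h k ?_⟩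
    have h1 : c * (toA (z * g) * d * (toA (z * g))⁻¹)
        = toA z * (c * (toA g * d * (toA g)⁻¹)) * (toA z)⁻¹ := by
      have h2 : toA (z * g) * d * (toA (z * g))⁻¹
          = toA z * (toA g * d * (toA g)⁻¹) * (toA z)⁻¹ := by
        rw [map_mul]; group
      rw [h2]
      generalize toA g * d * (toA g)⁻¹ = y
      rw [← mul_assoc, ← mul_assoc, ← hzc]
      group
    rw [h1, conj_pow] at hk
    obtain ⟨a, ha⟩ := hk
    refine ⟨a, fun v => ?_⟩
    have h4 := ha (z v)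
    rw [Equiv.Perm.mul_apply, Equiv.Perm.mul_apply] at h4
    rw [toA_inv_apply, toA_apply, ← map_smul] at h4
    exact z.injective h4
  · obtain ⟨z, hz, hzd⟩ := hd ((LinearEquiv.det g)⁻¹)
    refine ⟨g * z, by rw [map_mul, hz, mul_inv_cancel], fun k hk => h k ?_⟩
    have h2 : toA (g * z) * d * (toA (g * z))⁻¹ = toA g * d * (toA g)⁻¹ := by
      have : toA (g * z) * d * (toA (g * z))⁻¹
          = toA g * (toA z * d) * (toA z)⁻¹ * (toA g)⁻¹ := by rw [map_mul]; group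
      rw [this, hzd]; group
    rwa [h2] at hk

/-- A family of conjugates. -/
theorem BV.of_family [FiniteDimensional F V] {k : ℕ} {u v : Fin k → V}
    (hu : LinearIndependent F u) (hv : LinearIndependent F v)
    (hA : k < Module.finrank F V ∨ FullDet F c ∨ FullDet F d)
    (h : ∀ d' : Equiv.Perm V, ∀ g : V ≃ₗ[F] V, (∀ i, g (u i) = v i) →
      (∀ x, d' (g x) = g (d x)) → ∀ m : ℕ, ¬ IsScal F ((c * d') ^ p ^ m)) : BV F p c d := by
  have key : ∀ g : V ≃ₗ[F] V, (∀ i, g (u i) = v i) → ∀ m : ℕ,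
      ¬ IsScal F ((c * (toA g * d * (toA g)⁻¹)) ^ p ^ m) := by
    intro g hg m
    refine h (toA g * d * (toA g)⁻¹) g hg (fun x => ?_) m
    rw [Equiv.Perm.mul_apply, Equiv.Perm.mul_apply, toA_inv_apply, toA_apply]
  rcases hA with hk | hA
  · obtain ⟨g, hg, hgu⟩ := exists_sl_of_lt hu hv hk
    exact ⟨g, hg, key g hgu⟩
  · obtain ⟨g, hgu⟩ := Cfsg.Agent.H105.exists_equiv_of_indep hu hv
    exact BV.of_gl hA (key g hgu)

/-! ### `AV` -/

/-- The scalars. -/
theorem scal_mul_of_scl [Nontrivial V] {x y : Equiv.Perm V} (h : Scl F x y) :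
    ∃ a : Fˣ, x = scal F V a * y := by
  obtain ⟨s, hs, h⟩ := h
  refine ⟨Units.mk0 s hs, ?_⟩
  ext v
  rw [h, Equiv.Perm.mul_apply, scal_apply, Units.val_mk0]

theorem semi_conj_scal {y : Equiv.Perm V} (hy : Semi σ y) (a : Fˣ) :
    y * scal F V a * y⁻¹ = scal F V (Units.map (σ : F →* F) a) := by
  ext v
  rw [Equiv.Perm.mul_apply, Equiv.Perm.mul_apply, scal_apply, hy.smul, apply_inv_self, scal_apply]
  rfl

theorem mem_normalizer_scal {y : Equiv.Perm V} (hy : Semi σ y) :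
    y ∈ Subgroup.normalizer ((scal F V).range : Set (Equiv.Perm V)) := by
  rw [Subgroup.mem_normalizer_iff]
  intro x
  constructor
  · rintro ⟨a, rfl⟩
    exact ⟨_, (semi_conj_scal hy a).symm⟩
  · rintro ⟨a, ha⟩
    refine ⟨Units.map ((σ⁻¹ : F ≃+* F) : F →* F) a, ?_⟩
    rw [← semi_conj_scal hy.inv a, ha]
    group

theorem isSolvable_scal : Group.IsSolvable ↥(scal F V).range := by
  refine Group.isSolvable_of_comm ?_
  rintro ⟨_, a, rfl⟩ ⟨_, b, rfl⟩
  apply Subtype.ext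
  change scal F V a * scal F V b = scal F V b * scal F V a
  rw [← map_mul, ← map_mul, mul_comm]

theorem isSolvable_of_scl [Nontrivial V] (hc : Semi σ c) (hd : Semi τ d) (hcc : Scl F c' c)
    (hdd : Scl F d' d)
    (h : Group.IsSolvable ↥(Subgroup.closure ({c, d} : Set (Equiv.Perm V)))) :
    Group.IsSolvable ↥(Subgroup.closure ({c', d'} : Set (Equiv.Perm V))) := by
  have h1 := solvable_sup' (Subgroup.closure ({c, d} : Set (Equiv.Perm V))) (scal F V).range (by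
    rw [Subgroup.closure_le]
    rintro x (rfl | hx)
    · exact mem_normalizer_scal hc
    · rw [Set.mem_singleton_iff] at hx
      rw [hx]
      exact mem_normalizer_scal hd) h isSolvable_scal
  refine Cfsg.Agent.H132.S5.isSolvable_of_le ?_ h1
  rw [Subgroup.closure_le]
  rintro x (rfl | hx)
  · obtain ⟨a, rfl⟩ := scal_mul_of_scl hcc
    exact mul_mem ((le_sup_right : (scal F V).range ≤ _) ⟨a, rfl⟩)
      ((le_sup_left : Subgroup.closure ({c, d} : Set (Equiv.Perm V)) ≤ _)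
        (Subgroup.subset_closure (by simp)))
  · rw [Set.mem_singleton_iff] at hx
    rw [hx]
    obtain ⟨a, rfl⟩ := scal_mul_of_scl hdd
    exact mul_mem ((le_sup_right : (scal F V).range ≤ _) ⟨a, rfl⟩)
      ((le_sup_left : Subgroup.closure ({c, d} : Set (Equiv.Perm V)) ≤ _)
        (Subgroup.subset_closure (by simp)))

theorem AV.of_scl [Nontrivial V] (hc : Semi σ c) (hd : Semi τ d) (hcc : Scl F c' c)
    (hdd : Scl F d' d) (h : AV F c' d') : AV F c d := by
  obtain ⟨g, hg, h⟩ := h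
  exact ⟨g, hg, fun hs => h (isSolvable_of_scl hc (hd.conj g) hcc (scl_conj hd hdd g) hs)⟩

theorem AV.symm (h : AV F c d) : AV F d c := by
  obtain ⟨g, hg, h⟩ := h
  refine ⟨g⁻¹, by rw [map_inv, hg, inv_one], fun hP => h ?_⟩
  have h1 := (Cfsg.Agent.H533.T5.isSolvable_closure_pair_conj_iff (toA g) d
    (toA g⁻¹ * c * (toA g⁻¹)⁻¹)).mpr hP
  have : toA g * (toA g⁻¹ * c * (toA g⁻¹)⁻¹) * (toA g)⁻¹ = c := by rw [map_inv]; group
  rw [this, Set.pair_comm] at h1
  exact h1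

theorem AV.of_pow (i j : ℕ) (h : AV F (c ^ i) (d ^ j)) : AV F c d := by
  obtain ⟨g, hg, h⟩ := h
  refine ⟨g, hg, fun hP => h (Cfsg.Agent.H132.S5.isSolvable_of_le ?_ hP)⟩
  rw [Subgroup.closure_le]
  rintro x (rfl | hx)
  · exact pow_mem (Subgroup.subset_closure (by simp)) _
  · rw [Set.mem_singleton_iff] at hx
    rw [hx, ← conj_pow]
    exact pow_mem (Subgroup.subset_closure (by simp)) _

theorem AV.conj_right {s : V ≃ₗ[F] V} (hs : LinearEquiv.det s = 1)
    (h : AV F c (toA s * d * (toA s)⁻¹)) : AV F c d := by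
  obtain ⟨g, hg, h⟩ := h
  refine ⟨g * s, by rw [map_mul, hg, hs, mul_one], fun hk => h ?_⟩
  have h1 : toA g * (toA s * d * (toA s)⁻¹) * (toA g)⁻¹ = toA (g * s) * d * (toA (g * s))⁻¹ := by
    rw [map_mul]; group
  rwa [h1]

/-- From `GL` to `SL`. -/
theorem AV.of_gl (hc : FullDet F c ∨ FullDet F d) {g : V ≃ₗ[F] V} (h :
    ¬ Group.IsSolvable ↥(Subgroup.closure ({c, toA g * d * (toA g)⁻¹} : Set (Equiv.Perm V)))) :
    AV F c d := by
  rcases hc with hc | hd
  · obtain ⟨z, hz, hzc⟩ := hc ((LinearEquiv.det g)⁻¹)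
    refine ⟨z * g, by rw [map_mul, hz, inv_mul_cancel], fun hk => h ?_⟩
    refine (Cfsg.Agent.H533.T5.isSolvable_closure_pair_conj_iff (toA z) _ _).mp ?_
    have h1 : toA z * c * (toA z)⁻¹ = c := by rw [hzc]; group
    have h2 : toA (z * g) * d * (toA (z * g))⁻¹
        = toA z * (toA g * d * (toA g)⁻¹) * (toA z)⁻¹ := by
      rw [map_mul]; group
    rwa [h1, ← h2]
  · obtain ⟨z, hz, hzd⟩ := hd ((LinearEquiv.det g)⁻¹)
    refine ⟨g * z, by rw [map_mul, hz, mul_inv_cancel], fun hk => h ?_⟩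
    have h2 : toA (g * z) * d * (toA (g * z))⁻¹ = toA g * d * (toA g)⁻¹ := by
      have : toA (g * z) * d * (toA (g * z))⁻¹
          = toA g * (toA z * d) * (toA z)⁻¹ * (toA g)⁻¹ := by rw [map_mul]; group
      rw [this, hzd]; group
    rwa [h2] at hk

end Cfsg.Agent.H869.S5
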