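import Cfsg.Agent.H869.S5.AB

/-!
# Part (b) for pairs of semilinear maps with a Krylov element (S2274, C2)

Copies of the theorems of `H957/T5Conf` and `H957/T5Pairs` (helper957) with the exponents `1, 1`.
-/

set_option autoImplicit false

namespace Cfsg.Agent.H869.S5

open Module Finset
open Cfsg.Agent.H957.T5V Cfsg.Agent.H957.T5Conf Cfsg.Agent.H957.T5Two Cfsg.Agent.H957.T5Semi
open Cfsg.Agent.H957.T5Num Cfsg.Agent.H957.T5Field Cfsg.Agent.H957.T5Lin
open Cfsg.Agent.H957.T5Pairs Cfsg.Agent.H957.T5Main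

variable {F V : Type*} [Field F] [AddCommGroup V] [Module F V]
variable {p : ℕ} {σ τ : F ≃+* F} {c d : Equiv.Perm V}

section conf

variable [FiniteDimensional F V]

/-- **Configuration K.** Both elements have a vector with three independent iterates. -/
theorem bv_K (hp : (p : F) ≠ 0) (hc : Semi σ c) (hd : Semi τ d) {v u : V}
    (hv : LinearIndependent F ![v, c⁻¹ v, c⁻¹ (c⁻¹ v)])
    (hu : LinearIndependent F ![u, d u, d (d u)])
    (hA : 3 < finrank F V ∨ FullDet F c ∨ FullDet F d) : BV F p c d := by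
  have hv' : LinearIndependent F ![v, c⁻¹ v, c⁻¹ (c⁻¹ v) + c⁻¹ v] := by
    rw [li3_iff] at hv ⊢
    intro x y z h
    obtain ⟨h1, h2, h3⟩ := hv x (y + z) z (by rw [← h]; module)
    subst h1 h3
    exact ⟨rfl, by simpa using h2, rfl⟩
  have hv0 : v ≠ 0 := by
    have := hv.ne_zero 0
    simpa using this
  refine BV.of_family hu hv' hA ?_
  intro d' g hg hd' m
  have g0 : g u = v := hg 0
  have g1 : g (d u) = c⁻¹ v := hg 1
  have g2 : g (d (d u)) = c⁻¹ (c⁻¹ v) + c⁻¹ v := hg 2
  have hsd : Semi τ d' := by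
    have : d' = toA g * d * (toA g)⁻¹ := by
      ext w
      obtain ⟨x, rfl⟩ := g.surjective w
      rw [hd', Equiv.Perm.mul_apply, Equiv.Perm.mul_apply, toA_inv_apply, toA_apply]
    rw [this]
    exact hd.conj g
  refine not_scal_jordan (hc.mul hsd) (v0 := v) (v1 := c⁻¹ v) hv0 ?_ ?_ (cast_pow_ne hp m)
  · rw [Equiv.Perm.mul_apply]
    have := hd' u
    rw [g0, g1] at this
    rw [this, apply_inv_self]
  · rw [Equiv.Perm.mul_apply]
    have := hd' (d u)
    rw [g1, g2] at this
    rw [this, hc.add, apply_inv_self, apply_inv_self]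

/-- **Configuration R.** `c` has a vector with three independent iterates, `d` fixes `u1`. -/
theorem bv_R (hp : (p : F) ≠ 0) (hc : Semi σ c) (hd : Semi τ d) {z u0 u1 : V}
    (hz : LinearIndependent F ![c⁻¹ z, z, c z])
    (hu : LinearIndependent F ![u0, d u0, u1]) (hu1 : d u1 = u1)
    (hA : 3 < finrank F V ∨ FullDet F c ∨ FullDet F d) : BV F p c d := by
  have hv' : LinearIndependent F ![c z - z, z - c⁻¹ z, z] := by
    rw [li3_iff] at hz ⊢
    intro x y w h
    obtain ⟨h1, h2, h3⟩ := hz (-y) (w - x + y) x (by rw [← h]; module)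
    subst h3
    have hy : y = 0 := by simpa using h1
    subst hy
    exact ⟨rfl, rfl, by simpa using h2⟩
  have hv0 : c z - z ≠ 0 := by
    have := hv'.ne_zero 0
    simpa using this
  refine BV.of_family hu hv' hA ?_
  intro d' g hg hd' m
  have g0 : g u0 = c z - z := hg 0
  have g1 : g (d u0) = z - c⁻¹ z := hg 1
  have g2 : g u1 = z := hg 2
  have hsd : Semi τ d' := by
    have : d' = toA g * d * (toA g)⁻¹ := by
      ext w
      obtain ⟨x, rfl⟩ := g.surjective w
      rw [hd', Equiv.Perm.mul_apply, Equiv.Perm.mul_apply, toA_inv_apply, toA_apply]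
    rw [this]
    exact hd.conj g
  refine not_scal_jordan (hc.mul hsd) (v0 := c z - z) (v1 := z) hv0 ?_ ?_ (cast_pow_ne hp m)
  · rw [Equiv.Perm.mul_apply]
    have := hd' u0
    rw [g0, g1] at this
    rw [this, hc.sub, apply_inv_self]
  · rw [Equiv.Perm.mul_apply]
    have := hd' u1
    rw [hu1, g2] at this
    rw [this]
    abel

theorem bv_K' (hpF : (p : F) ≠ 0) (hc : Semi σ c) (hd : Semi τ d)
    (h1 : Kry3 F c) (h2 : Kry3 F d) (hA : 3 < Module.finrank F V ∨ FullDet F c ∨ FullDet F d) :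
    BV F p c d := by
  obtain ⟨w, hw⟩ := h1
  obtain ⟨u, hu⟩ := h2
  refine bv_K hpF hc hd (v := c (c w)) ?_ hu hA
  rw [inv_apply_self, inv_apply_self]
  rw [li3_iff] at hw ⊢
  intro x y z h
  obtain ⟨h1, h2, h3⟩ := hw z y x (by rw [← h]; abel)
  exact ⟨h3, h2, h1⟩

theorem bv_R' (hpF : (p : F) ≠ 0) (hc : Semi σ c) (hd : Semi τ d)
    (h1 : Kry3 F c) {u0 u1 : V} (hu : LinearIndependent F ![u0, d u0, u1]) (hu1 : d u1 = u1)
    (hA : 3 < Module.finrank F V ∨ FullDet F c ∨ FullDet F d) : BV F p c d := by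
  obtain ⟨w, hw⟩ := h1
  refine bv_R hpF hc hd (z := c w) ?_ hu hu1 hA
  rw [inv_apply_self]
  exact hw

/-- **(3, Krylov)** -/
theorem bv_field_kry (hp : p.Prime) (hpF : (p : F) ≠ 0)
    (hc : Semi σ c) (hd : Semi τ d) (h1 : Kry3 F c) (hτ : orderOf τ = p) (hdp : d ^ p = 1)
    (hA : 3 < finrank F V ∨ FullDet F c ∨ FullDet F d) : BV F p c d := by
  obtain ⟨b, hb, hbd⟩ := exists_fixed_basis hp.pos hd hτ hdp h1.finrank
  obtain ⟨t, ht⟩ := exists_t hp hτ
  refine bv_R' hpF hc hd h1 (u0 := b 0 + t • b 1) (u1 := b 2) ?_ (hbd 2) hA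
  have hb' : LinearIndependent F ![b 0, b 1, b 2] := by
    have : b = ![b 0, b 1, b 2] := by
      funext i; fin_cases i <;> rfl
    rwa [← this]
  rw [hd.add, hd.smul, hbd, hbd]
  rw [li3_iff] at hb' ⊢
  intro x y z h
  obtain ⟨h1, h2, h3⟩ := hb' (x + y) (x * t + y * τ t) z (by rw [← h]; module)
  have hx : x = -y := by linear_combination h1
  subst hx
  have h4 : y * (τ t - t) = 0 := by linear_combination h2
  rcases mul_eq_zero.1 h4 with h5 | h5
  · exact ⟨by rw [h5, neg_zero], h5, h3⟩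
  · exact absurd (sub_eq_zero.1 h5) ht

/-- **(0, Krylov)** -/
theorem bv_diag_kry (hpF : (p : F) ≠ 0)
    (hc : Semi σ c) (hd : Semi (1 : F ≃+* F) d) (h1 : Kry3 F c) {n : ℕ} (b : Basis (Fin n) F V)
    {a : Fin n → F} (ha : ∀ i, d (b i) = a i • b i) (hns : ¬ IsScal F d)
    (hA : 3 < finrank F V ∨ FullDet F c ∨ FullDet F d) : BV F p c d := by
  have hn : n = finrank F V := by rw [finrank_eq_card_basis b, Fintype.card_fin]
  have h3 := h1.finrank
  obtain ⟨i, j, hij⟩ : ∃ i j, a i ≠ a j := by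
    by_contra hcon
    push Not at hcon
    apply hns
    have hn0 : 0 < n := by omega
    refine ⟨a ⟨0, hn0⟩, fun v => ?_⟩
    obtain ⟨f, hf, -⟩ := exists_end hd
    rw [← hf]
    have h4 : (f : V →ₗ[F] V) = a ⟨0, hn0⟩ • LinearMap.id := by
      refine b.ext fun k => ?_
      change f (b k) = a ⟨0, hn0⟩ • b k
      rw [hf, ha, hcon k ⟨0, hn0⟩]
    exact congrArg (fun g : V →ₗ[F] V => g v) h4
  have hne : i ≠ j := by rintro rfl; exact hij rfl
  obtain ⟨k, hki, hkj⟩ : ∃ k : Fin n, k ≠ i ∧ k ≠ j := by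
    by_contra hcon
    push Not at hcon
    have : (Finset.univ : Finset (Fin n)) ⊆ {i, j} := by
      intro k _
      by_cases hk : k = i
      · simp [hk]
      · simp [hcon k hk]
    have h4 := Finset.card_le_card this
    rw [Finset.card_univ, Fintype.card_fin] at h4
    have h5 : ({i, j} : Finset (Fin n)).card ≤ 2 := Finset.card_le_two
    omega
  have hak : a k ≠ 0 := by
    intro h0
    have h4 := ha k
    rw [h0, zero_smul, ← hd.zero] at h4
    exact b.ne_zero k (d.injective h4)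
  refine BV.of_scl (c' := c) (d' := smulA (Units.mk0 (a k) hak)⁻¹ d) hc hd (Scl.refl c)
    (scl_smulA _ d) ?_
  have hds : Semi (1 : F ≃+* F) (smulA (Units.mk0 (a k) hak)⁻¹ d) := hd.smulA _
  have hA' : 3 < finrank F V ∨ FullDet F c ∨ FullDet F (smulA (Units.mk0 (a k) hak)⁻¹ d) := by
    rcases hA with h | h | h
    · exact Or.inl h
    · exact Or.inr (Or.inl h)
    · refine Or.inr (Or.inr fun δ => ?_)
      obtain ⟨z, hz, hzd⟩ := h δ
      refine ⟨z, hz, ?_⟩
      ext v
      have h4 := congrArg (fun e : Equiv.Perm V => e v) hzd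
      simp only [Equiv.Perm.mul_apply, toA_apply] at h4
      rw [Equiv.Perm.mul_apply, Equiv.Perm.mul_apply, toA_apply, toA_apply, smulA_apply,
        smulA_apply, map_smul, h4]
  have hdv : ∀ v, smulA (Units.mk0 (a k) hak)⁻¹ d v = (a k)⁻¹ • d v := fun v => by
    rw [smulA_apply, Units.val_inv_eq_inv_val, Units.val_mk0]
  refine bv_R' hpF hc hds h1 (u0 := b i + b j) (u1 := b k) ?_ ?_ hA'
  · rw [hdv, hd.add, ha, ha]
    have hli : LinearIndependent F ![b i, b j, b k] := by
      have h4 := b.linearIndependent.comp ![i, j, k] (by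
        intro x y hxy
        fin_cases x <;> fin_cases y <;> simp_all)
      have h5 : (b ∘ ![i, j, k] : Fin 3 → V) = ![b i, b j, b k] := by
        funext x; fin_cases x <;> rfl
      rwa [h5] at h4
    rw [li3_iff] at hli ⊢
    intro x y z h
    obtain ⟨h4, h5, h6⟩ := hli (x + y * ((a k)⁻¹ * a i)) (x + y * ((a k)⁻¹ * a j)) z
      (by rw [← h]; module)
    have h7 : y * (a i - a j) = 0 := by
      have h8 : (a k)⁻¹ * (y * (a i - a j)) = 0 := by linear_combination h4 - h5
      exact (mul_eq_zero.1 h8).resolve_left (inv_ne_zero hak)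
    have hy : y = 0 := (mul_eq_zero.1 h7).resolve_right (sub_ne_zero.2 hij)
    subst hy
    exact ⟨by simpa using h4, rfl, h6⟩
  · rw [hdv, ha, inv_smul_smul₀ hak]


end conf

end Cfsg.Agent.H869.S5
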