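import Cfsg.Agent.H869.S5.ATwo
import Cfsg.Agent.H869.S5.BKry

/-!
# Pairs with an element of irreducible type `X ^ p - l` (S2274, C2)
-/

set_option autoImplicit false

namespace Cfsg.Agent.H869.S5

open Module Finset
open Cfsg.Agent.H957.T5V Cfsg.Agent.H957.T5Tr Cfsg.Agent.H957.T5Conf Cfsg.Agent.H957.T5Pairs
open Cfsg.Agent.H957.T5Lin Cfsg.Agent.H957.T5Main
open Cfsg.Agent.H533.T5 Cfsg.Agent.H132.S5

section A

variable {F : Type} [Field F] {V : Type*} [AddCommGroup V] [Module F V] {p : ℕ} {τ : F ≃+* F}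
  {c d : Equiv.Perm V}

theorem conj_eig {W : Type*} [AddCommGroup W] [Module F W] {g : W ≃ₗ[F] W} {z : Equiv.Perm W}
    {w : W} {a : F} (h : z w = a • w) : (toA g * z * (toA g)⁻¹) (g w) = a • g w := by
  rw [Equiv.Perm.mul_apply, Equiv.Perm.mul_apply, toA_inv_apply, toA_apply, h, map_smul]

theorem li_conj {W : Type*} [AddCommGroup W] [Module F W] (g : W ≃ₗ[F] W) {e f : W}
    (h : LinearIndependent F ![e, f]) : LinearIndependent F ![g e, g f] := by
  rw [li2_iff] at h ⊢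
  intro x y hxy
  refine h x y (g.injective ?_)
  rw [map_add, map_smul, map_smul, hxy, map_zero]

theorem ne_zero_of_li {W : Type*} [AddCommGroup W] [Module F W] {e f : W}
    (h : LinearIndependent F ![e, f]) : e ≠ 0 := by
  have := h.ne_zero 0
  simpa using this

/-- **Type 0.** -/
theorem av_diag [Finite F] [FiniteDimensional F V] (hp : p.Prime)
    (hrow : SRow p (Matrix.ProjectiveSpecialLinearGroup (Fin 2) F))
    (hc : Semi (1 : F ≃+* F) c) (hcF : FullDet F c) {v : V}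
    (hv : LinearIndependent F ![c⁻¹ v, v, c v]) (hd : Semi (1 : F ≃+* F) d)
    {n : ℕ} (hn : 3 ≤ n) (b : Basis (Fin n) F V) {α : Fin n → F}
    (hα : ∀ i, d (b i) = α i • b i) (hαp : ∀ i j, α i ^ p = α j ^ p) (hns : ¬ IsScal F d) :
    AV F c d := by
  classical
  obtain ⟨i, j, hij⟩ : ∃ i j, α i ≠ α j := by
    by_contra hcon
    push Not at hcon
    apply hns
    have hn0 : 0 < n := by omega
    refine ⟨α ⟨0, hn0⟩, fun v => ?_⟩
    obtain ⟨f, hf, -⟩ := exists_end hd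
    rw [← hf]
    have h4 : (f : V →ₗ[F] V) = α ⟨0, hn0⟩ • LinearMap.id := by
      refine b.ext fun k => ?_
      change f (b k) = α ⟨0, hn0⟩ • b k
      rw [hf, hα, hcon k ⟨0, hn0⟩]
    exact congrArg (fun g : V →ₗ[F] V => g v) h4
  have hne : i ≠ j := by rintro rfl; exact hij rfl
  obtain ⟨k, hki, hkj⟩ : ∃ k : Fin n, k ≠ i ∧ k ≠ j := by
    by_contra hcon
    push Not at hcon
    have : (Finset.univ : Finset (Fin n)) ⊆ {i, j} := by
      intro k _
      by_cases hk : k = i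
      · simp [hk]
      · simp [hcon k hk]
    have h4 := Finset.card_le_card this
    rw [Finset.card_univ, Fintype.card_fin] at h4
    have h5 : ({i, j} : Finset (Fin n)).card ≤ 2 := Finset.card_le_two
    omega
  obtain ⟨i0, i1, i2, h01, h02, h12, ha1, ha2⟩ : ∃ i0 i1 i2 : Fin n, i0 ≠ i1 ∧ i0 ≠ i2 ∧ i1 ≠ i2 ∧
      α i0 ≠ α i1 ∧ α i0 ≠ α i2 := by
    by_cases hk : α k = α i
    · exact ⟨j, i, k, hne.symm, hkj.symm, hki.symm, fun h => hij h.symm, fun h => hij (by
        rw [h, hk])⟩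
    · exact ⟨i, j, k, hne, hki.symm, hkj.symm, hij, fun h => hk h.symm⟩
  have hα0 : ∀ i, α i ≠ 0 := by
    intro i h0
    have h4 := hα i
    rw [h0, zero_smul, ← hd.zero] at h4
    exact b.ne_zero i (d.injective h4)
  have hu : LinearIndependent F ![b i0, b i1, b i2] := by
    have h4 := b.linearIndependent.comp ![i0, i1, i2] (by
      intro x y hxy
      fin_cases x <;> fin_cases y <;> simp_all)
    have h5 : (b ∘ ![i0, i1, i2] : Fin 3 → V) = ![b i0, b i1, b i2] := by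
      funext x; fin_cases x <;> rfl
    rwa [h5] at h4
  obtain ⟨β0, hβ0⟩ : ∃ u : Fˣ, (u : F) = α i0 := ⟨Units.mk0 _ (hα0 i0), rfl⟩
  obtain ⟨β1, hβ1⟩ : ∃ u : Fˣ, (u : F) = α i1 := ⟨Units.mk0 _ (hα0 i1), rfl⟩
  obtain ⟨β2, hβ2⟩ : ∃ u : Fˣ, (u : F) = α i2 := ⟨Units.mk0 _ (hα0 i2), rfl⟩
  obtain ⟨g, -, hg⟩ := (ab_of_srow le_rfl hp hrow (semi_dg (1 : F ≃+* F) β0 β1)
    (semi_dg (1 : F ≃+* F) β0 β2) (isScal_dg_pow (by rw [hβ0, hβ1, hαp i0 i1]))
    (not_isScal_dg (by rw [hβ0, hβ1]; exact ha1)) (isScal_dg_pow (by rw [hβ0, hβ2, hαp i0 i2]))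
    (not_isScal_dg (by rw [hβ0, hβ2]; exact ha2))).1
  have q1 : (toA g * dg 1 β0 β2 * (toA g)⁻¹) (g (b1 F)) = (β0 : F) • g (b1 F) :=
    conj_eig (dg_b1 1 β0 β2)
  have q2 : (toA g * dg 1 β0 β2 * (toA g)⁻¹) (g (b2 F)) = (β2 : F) • g (b2 F) :=
    conj_eig (dg_b2 1 β0 β2)
  have hs2 : Semi (1 : F ≃+* F) (toA g * dg 1 β0 β2 * (toA g)⁻¹) := (semi_dg 1 β0 β2).conj g
  have hli := li_conj g (li_b (F := F))
  have hef : LinearIndependent F ![b1 F, g (b1 F)] :=
    li_of_not_solv finrank_two li_b hli (semi_dg 1 β0 β1) hs2 β0.ne_zero β1.ne_zero β2.ne_zero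
      (dg_b1 1 β0 β1) (dg_b2 1 β0 β1) q1 q2 hg
  exact av_core hc hcF hv hd hu (hα i0) (hα i1) (hα i2) finrank_two (semi_dg 1 β0 β1) hs2
    li_b hli hef (by rw [dg_b1, hβ0]) (by rw [dg_b2, hβ1]) (by rw [q1, hβ0]) (by rw [q2, hβ2]) hg

/-- **Type 3.** -/
theorem av_field [Finite F] [FiniteDimensional F V] (hp : p.Prime)
    (hrow : SRow p (Matrix.ProjectiveSpecialLinearGroup (Fin 2) F))
    (hc : Semi (1 : F ≃+* F) c) (hcF : FullDet F c) {v : V}
    (hv : LinearIndependent F ![c⁻¹ v, v, c v]) (hd : Semi τ d) (hτ : orderOf τ = p)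
    (hdp : d ^ p = 1) : AV F c d := by
  have h3 : 3 ≤ finrank F V := by
    have := hv.fintype_card_le_finrank
    simpa using this
  obtain ⟨b, hb, hbd⟩ := exists_fixed_basis hp.pos hd hτ hdp h3
  have hb' : LinearIndependent F ![b 0, b 1, b 2] := by
    have : b = ![b 0, b 1, b 2] := by
      funext i; fin_cases i <;> rfl
    rwa [← this]
  have hτ1 : τ ≠ 1 := by
    rintro rfl
    rw [orderOf_one] at hτ
    exact hp.one_lt.ne hτ
  have hτp : τ ^ p = 1 := by rw [← hτ, pow_orderOf_eq_one]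
  obtain ⟨g, -, hg⟩ := (ab_of_srow le_rfl hp hrow (semi_dg τ 1 1) (semi_dg τ 1 1)
    (isScal_dg_field hτp) (not_isScal_field hτ1) (isScal_dg_field hτp)
    (not_isScal_field hτ1)).1
  have q1 : (toA g * dg τ 1 1 * (toA g)⁻¹) (g (b1 F)) = (1 : F) • g (b1 F) :=
    conj_eig (by simpa using dg_b1 τ 1 1)
  have q2 : (toA g * dg τ 1 1 * (toA g)⁻¹) (g (b2 F)) = (1 : F) • g (b2 F) :=
    conj_eig (by simpa using dg_b2 τ 1 1)
  have hs2 : Semi τ (toA g * dg τ 1 1 * (toA g)⁻¹) := (semi_dg τ 1 1).conj g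
  have hli := li_conj g (li_b (F := F))
  have hli' : LinearIndependent F ![g (b2 F), g (b1 F)] := li_swap hli
  have k : ∀ i, d (b i) = (1 : F) • b i := fun i => by rw [hbd, one_smul]
  have e1 : dg τ 1 1 (b1 F) = (1 : F) • b1 F := by simpa using dg_b1 τ 1 1
  have e2 : dg τ 1 1 (b2 F) = (1 : F) • b2 F := by simpa using dg_b2 τ 1 1
  by_cases hef : LinearIndependent F ![b1 F, g (b1 F)]
  · exact av_core hc hcF hv hd hb' (k 0) (k 1) (k 2) finrank_two (semi_dg τ 1 1) hs2 li_b hli hef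
      e1 e2 q1 q2 hg
  · refine av_core hc hcF hv hd hb' (k 0) (k 1) (k 2) finrank_two (semi_dg τ 1 1) hs2 li_b hli' ?_
      e1 e2 q2 q1 hg
    exact li_or (ne_zero_of_li li_b) hli hef

end A

section align

variable {F : Type*} [Field F] {V : Type*} [AddCommGroup V] [Module F V] {p : ℕ}

/-- The vectors `v, f v, …, f ^ (p - 1) v` are independent. -/
theorem li_iter (hp : p.Prime) {f : End F V} {l : F} (hl : ∀ t : F, t ^ p ≠ l)
    (hf : ∀ v, (f ^ p) v = l • v) {v : V} (hv : v ≠ 0) :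
    LinearIndependent F (fun i : Fin p => (f ^ (i : ℕ)) v) := by
  classical
  have hirr : Irreducible (Polynomial.X ^ p - Polynomial.C l : Polynomial F) :=
    X_pow_sub_C_irreducible_of_prime hp hl
  rw [Fintype.linearIndependent_iff]
  intro g hg
  let P : Polynomial F := ∑ i : Fin p, Polynomial.C (g i) * Polynomial.X ^ (i : ℕ)
  have hPf : (Polynomial.aeval f P) v = 0 := by
    have : Polynomial.aeval f P = ∑ i : Fin p, algebraMap F (End F V) (g i) * f ^ (i : ℕ) := by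
      simp [P]
    rw [this, LinearMap.sum_apply, ← hg]
    refine Finset.sum_congr rfl fun i _ => ?_
    rw [Module.End.mul_apply, Module.algebraMap_end_apply]
  have h0 : (Polynomial.aeval f (Polynomial.X ^ p - Polynomial.C l : Polynomial F)) v = 0 := by
    rw [map_sub, map_pow, Polynomial.aeval_X, Polynomial.aeval_C, LinearMap.sub_apply, hf,
      Module.algebraMap_end_apply, sub_self]
  have hdeg : P.degree < p := by
    refine (Polynomial.degree_sum_fin_lt g)
  have hPz : P = 0 := by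
    by_contra hP0
    have hcop : IsCoprime (Polynomial.X ^ p - Polynomial.C l : Polynomial F) P := by
      rw [hirr.coprime_iff_not_dvd]
      intro hd
      have h1 := Polynomial.degree_le_of_dvd hd hP0
      rw [Polynomial.degree_X_pow_sub_C hp.pos] at h1
      exact absurd (lt_of_le_of_lt h1 hdeg) (lt_irrefl _)
    obtain ⟨a, b, hab⟩ := hcop
    apply hv
    have h2 : v = (Polynomial.aeval f (a * (Polynomial.X ^ p - Polynomial.C l) + b * P)) v := by
      rw [hab, map_one]; rfl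
    rw [h2, map_add, map_mul, map_mul, LinearMap.add_apply, End.mul_apply, End.mul_apply, h0, hPf,
      map_zero, map_zero, add_zero]
  intro i
  have h3 := congrArg (fun Q : Polynomial F => Q.coeff (i : ℕ)) hPz
  simp only [P, Polynomial.finsetSum_coeff, Polynomial.coeff_C_mul, Polynomial.coeff_X_pow,
    Polynomial.coeff_zero] at h3
  rw [Finset.sum_eq_single i] at h3
  · simpa using h3
  · intro j _ hj
    rw [if_neg (fun h => hj (Fin.ext h.symm)), mul_zero]
  · intro h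
    exact absurd (Finset.mem_univ i) h

/-- Two linear maps of type `X ^ p - l` are conjugate. -/
theorem exists_conj_irr [FiniteDimensional F V] (hp : p.Prime) (hV : finrank F V = p)
    {c d : Equiv.Perm V} (hc : Semi (1 : F ≃+* F) c) (hd : Semi (1 : F ≃+* F) d) {l : F}
    (hl : ∀ t : F, t ^ p ≠ l) (hcl : ∀ v, (c ^ p) v = l • v) (hdl : ∀ v, (d ^ p) v = l • v) :
    ∃ g : V ≃ₗ[F] V, toA g * d * (toA g)⁻¹ = c := by
  have : Nontrivial V := nontrivial_of_finrank_pos (R := F) (by rw [hV]; exact hp.pos)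
  obtain ⟨v, hv⟩ := exists_ne (0 : V)
  obtain ⟨fc, hfc, hfc'⟩ := exists_end hc
  obtain ⟨fd, hfd, hfd'⟩ := exists_end hd
  have h1 := li_iter (f := (fc : End F V)) hp hl (fun w => by rw [pow_end hfc, hcl]) hv
  have h2 := li_iter (f := (fd : End F V)) hp hl (fun w => by rw [pow_end hfd, hdl]) hv
  have h1' : LinearIndependent F (fun i : Fin p => (c ^ (i : ℕ)) v) := by
    convert h1 using 2 with i
    rw [pow_end hfc]
  have h2' : LinearIndependent F (fun i : Fin p => (d ^ (i : ℕ)) v) := by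
    convert h2 using 2 with i
    rw [pow_end hfd]
  obtain ⟨g, hg⟩ := Cfsg.Agent.H105.exists_equiv_of_indep h2' h1'
  refine ⟨g, ?_⟩
  have hg' : ∀ i : ℕ, i < p → g ((d ^ i) v) = (c ^ i) v := fun i hi => hg ⟨i, hi⟩
  have hgp : g ((d ^ p) v) = (c ^ p) v := by
    rw [hdl, hcl, map_smul]
    have := hg' 0 hp.pos
    rw [pow_zero, pow_zero] at this
    rw [show g v = v from this]
  have key : ∀ w, g (fd w) = fc (g w) := by
    have h3 : (g : V →ₗ[F] V) ∘ₗ (fd : V →ₗ[F] V) = (fc : V →ₗ[F] V) ∘ₗ (g : V →ₗ[F] V) := by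
      have hne : Nonempty (Fin p) := ⟨⟨0, hp.pos⟩⟩
      let B : Basis (Fin p) F V := basisOfLinearIndependentOfCardEqFinrank h2'
        (by rw [Fintype.card_fin, hV])
      refine B.ext fun i => ?_
      have hB : B i = (d ^ (i : ℕ)) v := by
        simp [B]
      rw [hB]
      change g (fd ((d ^ (i : ℕ)) v)) = fc (g ((d ^ (i : ℕ)) v))
      rw [hg' i i.2, hfd, hfc, ← Equiv.Perm.mul_apply, ← Equiv.Perm.mul_apply, ← pow_succ',
        ← pow_succ']
      rcases Nat.lt_or_ge ((i : ℕ) + 1) p with h | h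
      · exact hg' _ h
      · have : (i : ℕ) + 1 = p := by have := i.2; omega
        rw [this, hgp]
    intro w
    exact congrArg (fun f : V →ₗ[F] V => f w) h3
  ext w
  obtain ⟨x, rfl⟩ := g.surjective w
  rw [Equiv.Perm.mul_apply, Equiv.Perm.mul_apply, toA_inv_apply, toA_apply, ← hfd, key, hfc]

/-- In a finite field two non-`p`-th powers are related. -/
theorem exists_pow_mul [Finite F] (hp : p.Prime) {l l' : F} (hl0 : l ≠ 0) (hl0' : l' ≠ 0)
    (hl' : ∀ t : F, t ^ p ≠ l') : ∃ (j : ℕ) (t : Fˣ), (t : F) ^ p * l' ^ j = l := by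
  obtain ⟨γ, hγ⟩ := IsCyclic.exists_generator (α := Fˣ)
  obtain ⟨m, hm⟩ := Subgroup.mem_zpowers_iff.1 (hγ (Units.mk0 l' hl0'))
  obtain ⟨r, hr⟩ := Subgroup.mem_zpowers_iff.1 (hγ (Units.mk0 l hl0))
  have hpm : ¬ (p : ℤ) ∣ m := by
    rintro ⟨k, rfl⟩
    apply hl' ((γ ^ k : Fˣ) : F)
    rw [← Units.val_pow_eq_pow_val, ← zpow_natCast, ← zpow_mul, mul_comm, hm, Units.val_mk0]
  have hcop : IsCoprime m (p : ℤ) :=
    ((Nat.prime_iff_prime_int.1 hp).coprime_iff_not_dvd.2 hpm).symm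
  obtain ⟨u, w, huw⟩ := hcop
  -- j = r u mod p
  obtain ⟨j, hj⟩ : ∃ j : ℕ, (p : ℤ) ∣ (r * u - j) := by
    refine ⟨((r * u) % p).toNat, ?_⟩
    rw [Int.toNat_of_nonneg (Int.emod_nonneg _ (by exact_mod_cast hp.ne_zero))]
    exact Int.dvd_self_sub_emod
  obtain ⟨k, hk⟩ := hj
  have h1 : r = m * j + p * (k * m + r * w) := by
    have : r = r * (u * m + w * p) := by rw [huw, mul_one]
    have h2 : r * u = j + p * k := by linarith
    calc r = r * (u * m + w * p) := this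
      _ = (r * u) * m + r * w * p := by ring
      _ = (j + p * k) * m + r * w * p := by rw [h2]
      _ = _ := by ring
  refine ⟨j, γ ^ (k * m + r * w), ?_⟩
  have h2 : (γ ^ (k * m + r * w)) ^ p * (Units.mk0 l' hl0') ^ j = Units.mk0 l hl0 := by
    rw [← hm, ← hr, ← zpow_natCast, ← zpow_mul, ← zpow_natCast, ← zpow_mul, ← zpow_add]
    congr 1
    linear_combination -h1
  have h3 := congrArg Units.val h2
  rwa [Units.val_mul, Units.val_pow_eq_pow_val, Units.val_pow_eq_pow_val, Units.val_mk0,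
    Units.val_mk0] at h3

/-- **Type 2 against type 2.** -/
theorem al_irr [Finite F] [FiniteDimensional F V] (hp : p.Prime) (hpF : (p : F) ≠ 0)
    (hV : finrank F V = p)
    {c d : Equiv.Perm V} (hc : Semi (1 : F ≃+* F) c) (hd : Semi (1 : F ≃+* F) d) {l l' : F}
    (hl : ∀ t : F, t ^ p ≠ l) (hl' : ∀ t : F, t ^ p ≠ l') (hcl : ∀ v, (c ^ p) v = l • v)
    (hdl : ∀ v, (d ^ p) v = l' • v) :
    ∃ g : V ≃ₗ[F] V, LinearEquiv.det g = 1 ∧ ∃ j : ℕ,
      Scl F ((toA g * d * (toA g)⁻¹) ^ j) c := by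
  have : Nontrivial V := nontrivial_of_finrank_pos (R := F) (by rw [hV]; exact hp.pos)
  have hl0 : l ≠ 0 := by
    rintro rfl
    exact hl 0 (zero_pow hp.ne_zero)
  have hl0' : l' ≠ 0 := by
    rintro rfl
    exact hl' 0 (zero_pow hp.ne_zero)
  obtain ⟨j, t, htj⟩ := exists_pow_mul hp hl0 hl0' hl'
  have hdj : Semi (1 : F ≃+* F) (d ^ j) := by simpa using hd.pow j
  have hpow : ∀ (k : ℕ) (v : V), ((d ^ p) ^ k) v = l' ^ k • v := by
    intro k
    induction k with
    | zero => intro v; simp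
    | succ k ih =>
      intro v
      rw [pow_succ, Equiv.Perm.mul_apply, hdl, ((hd.pow p).pow k).smul, ih, smul_smul, pow_succ]
      congr 1
      rw [one_pow, one_pow, RingAut.one_apply, mul_comm]
  obtain ⟨g, hg⟩ := exists_conj_irr hp hV hc (hdj.smulA t) hl hcl (fun v => by
    rw [smulA_pow_lin hdj, ← pow_mul, mul_comm j p, pow_mul, hpow, smul_smul, htj])
  have hcF : FullDet F c := fullDet_lin hpF hc ⟨l, hcl⟩
  obtain ⟨z, hz, hzc⟩ := hcF ((LinearEquiv.det g)⁻¹)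
  refine ⟨z * g, by rw [map_mul, hz, inv_mul_cancel], j, ?_⟩
  have h1 : toA (z * g) * smulA t (d ^ j) * (toA (z * g))⁻¹ = c := by
    have : toA (z * g) * smulA t (d ^ j) * (toA (z * g))⁻¹
        = toA z * (toA g * smulA t (d ^ j) * (toA g)⁻¹) * (toA z)⁻¹ := by
      rw [map_mul]; group
    rw [this, hg, hzc]; group
  rw [conj_pow]
  have h2 := scl_conj (hdj.smulA t) (scl_smulA t (d ^ j)).symm (z * g)
  rwa [h1] at h2

end align

end Cfsg.Agent.H869.S5
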