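import Cfsg.Agent.H869.S5.Tr

/-!
# Part (a): the two-dimensional trick (S2274, C2)

`c` linear, `v` with `c⁻¹ v, v, c v` independent.  If the conjugate `y` of `d` preserves `⟨v, c v⟩` and
`⟨c⁻¹ v, v⟩`, then `y` and `c y c⁻¹` act on `⟨v, c v⟩`, and the action can be prescribed.
-/

set_option autoImplicit false

namespace Cfsg.Agent.H869.S5

open Module
open Cfsg.Agent.H957.T5V Cfsg.Agent.H957.T5Conf Cfsg.Agent.H132.S5

section perm

variable {U V : Type*}

/-- If `T` intertwines `x₁, x₂` with `y₁, y₂` then `⟨x₁, x₂⟩` is an image of `⟨y₁, y₂⟩`. -/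
theorem solv_of_intertwine {T : U → V} (hT : Function.Injective T) {x1 x2 : Equiv.Perm U}
    {y1 y2 : Equiv.Perm V} (h1 : ∀ u, y1 (T u) = T (x1 u)) (h2 : ∀ u, y2 (T u) = T (x2 u))
    (h : Group.IsSolvable ↥(Subgroup.closure ({y1, y2} : Set (Equiv.Perm V)))) :
    Group.IsSolvable ↥(Subgroup.closure ({x1, x2} : Set (Equiv.Perm U))) := by
  rw [← closure_fst y1 y2 x1 x2] at h
  have key : ∀ z ∈ Subgroup.closure ({(y1, x1), (y2, x2)} :
      Set (Equiv.Perm V × Equiv.Perm U)), ∀ u, z.1 (T u) = T (z.2 u) := by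
    intro z hz
    induction hz using Subgroup.closure_induction with
    | mem z hz =>
      rcases hz with rfl | hz
      · exact h1
      · rw [Set.mem_singleton_iff] at hz
        subst hz
        exact h2
    | one => intro u; rfl
    | mul z z' _ _ hz hz' =>
      intro u
      change z.1 (z'.1 (T u)) = T (z.2 (z'.2 u))
      rw [hz', hz]
    | inv z _ hz =>
      intro u
      change z.1⁻¹ (T u) = T (z.2⁻¹ u)
      apply z.1.injective
      rw [hz, apply_inv_self, apply_inv_self]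
  have h3 := solv_of_prod' h (by
    intro x hx
    ext u
    apply hT
    exact (key _ hx u).symm)
  rwa [closure_snd] at h3

end perm

variable {F : Type*} [Field F]

section borel

variable {U : Type*} [AddCommGroup U] [Module F U]

theorem exists_coords (hU : finrank F U = 2) {e f : U}
    (h : LinearIndependent F ![e, f]) (u : U) : ∃ x y : F, u = x • e + y • f := by
  have : FiniteDimensional F U := FiniteDimensional.of_finrank_pos (by omega)
  have h1 : Submodule.span F (Set.range ![e, f]) = ⊤ :=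
    h.span_eq_top_of_card_eq_finrank (by rw [hU, Fintype.card_fin])
  have h2 : u ∈ Submodule.span F (Set.range ![e, f]) := by rw [h1]; exact Submodule.mem_top
  rw [Matrix.range_cons, Matrix.range_cons, Matrix.range_empty, Set.union_empty,
    Set.singleton_union] at h2
  obtain ⟨x, y, h3⟩ := Submodule.mem_span_pair.1 h2
  exact ⟨x, y, h3.symm⟩

/-- The Borel subgroup of `GL₂` is solvable. -/
theorem solv_borel (hU : finrank F U = 2) {e1 e2 : U} (he : LinearIndependent F ![e1, e2])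
    {x1 x2 : Equiv.Perm U} (h1 : Semi (1 : F ≃+* F) x1) (h2 : Semi (1 : F ≃+* F) x2)
    {b1 a1 g1 b2 a2 g2 : F} (hb1 : b1 ≠ 0) (ha1 : a1 ≠ 0) (hb2 : b2 ≠ 0) (ha2 : a2 ≠ 0)
    (h11 : x1 e1 = b1 • e1) (h12 : x1 e2 = a1 • e2 + g1 • e1)
    (h21 : x2 e1 = b2 • e1) (h22 : x2 e2 = a2 • e2 + g2 • e1) :
    Group.IsSolvable ↥(Subgroup.closure ({x1, x2} : Set (Equiv.Perm U))) := by
  let m1 : Fˣ × Fˣ := (Units.mk0 b1 hb1, Units.mk0 a1 ha1)
  let m2 : Fˣ × Fˣ := (Units.mk0 b2 hb2, Units.mk0 a2 ha2)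
  rw [← closure_fst x1 x2 m1 m2]
  have key : ∀ z ∈ Subgroup.closure ({(x1, m1), (x2, m2)} : Set (Equiv.Perm U × (Fˣ × Fˣ))),
      Semi (1 : F ≃+* F) z.1 ∧ z.1 e1 = (z.2.1 : F) • e1 ∧
        ∃ g : F, z.1 e2 = (z.2.2 : F) • e2 + g • e1 := by
    intro z hz
    induction hz using Subgroup.closure_induction with
    | mem z hz =>
      rcases hz with rfl | hz
      · exact ⟨h1, h11, g1, h12⟩
      · rw [Set.mem_singleton_iff] at hz
        subst hz
        exact ⟨h2, h21, g2, h22⟩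
    | one => exact ⟨Semi.one, (one_smul F e1).symm, 0, by
        change e2 = (1 : F) • e2 + (0 : F) • e1
        rw [one_smul, zero_smul, add_zero]⟩
    | mul z z' _ _ hz hz' =>
      obtain ⟨s, q1, g, q2⟩ := hz
      obtain ⟨s', q1', g', q2'⟩ := hz'
      refine ⟨by simpa using s.mul s', ?_, (z'.2.2 : F) * g + g' * (z.2.1 : F), ?_⟩
      · change z.1 (z'.1 e1) = ((z.2.1 * z'.2.1 : Fˣ) : F) • e1
        rw [q1', s.smul, q1, smul_smul, RingAut.one_apply, Units.val_mul, mul_comm]
      · change z.1 (z'.1 e2) = ((z.2.2 * z'.2.2 : Fˣ) : F) • e2 + _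
        rw [q2', s.add, s.smul, s.smul, q1, q2, RingAut.one_apply, RingAut.one_apply, Units.val_mul]
        module
    | inv z _ hz =>
      obtain ⟨s, q1, g, q2⟩ := hz
      have hi : Semi (1 : F ≃+* F) z.1⁻¹ := by simpa using s.inv
      have e1' : z.1⁻¹ e1 = ((z.2.1⁻¹ : Fˣ) : F) • e1 := by
        apply z.1.injective
        rw [apply_inv_self, s.smul, q1, RingAut.one_apply, smul_smul, ← Units.val_mul,
          inv_mul_cancel, Units.val_one, one_smul]
      refine ⟨hi, e1', -(((z.2.2⁻¹ : Fˣ) : F) * g * ((z.2.1⁻¹ : Fˣ) : F)), ?_⟩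
      change z.1⁻¹ e2 = ((z.2.2⁻¹ : Fˣ) : F) • e2 + _
      apply z.1.injective
      rw [apply_inv_self, s.add, s.smul, s.smul, q2, q1, RingAut.one_apply, RingAut.one_apply]
      have e3 : ((z.2.2⁻¹ : Fˣ) : F) * (z.2.2 : F) = 1 := by
        rw [← Units.val_mul, inv_mul_cancel, Units.val_one]
      have e4 : ((z.2.1⁻¹ : Fˣ) : F) * (z.2.1 : F) = 1 := by
        rw [← Units.val_mul, inv_mul_cancel, Units.val_one]
      calc e2 = (1 : F) • e2 + (((z.2.2⁻¹ : Fˣ) : F) * g * (1 - 1)) • e1 := by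
            rw [sub_self, mul_zero, zero_smul, one_smul, add_zero]
        _ = (((z.2.2⁻¹ : Fˣ) : F) * (z.2.2 : F)) • e2
            + (((z.2.2⁻¹ : Fˣ) : F) * g * (1 - ((z.2.1⁻¹ : Fˣ) : F) * (z.2.1 : F))) • e1 := by
            rw [e3, e4]
        _ = _ := by module
  refine solv_of_prod (Group.isSolvable_of_comm fun a b => mul_comm a b) ?_
  intro x y hx hy
  obtain ⟨sx, px, gx, qx⟩ := key _ hx
  obtain ⟨sy, py, gy, qy⟩ := key _ hy
  change x e1 = (1 : F) • e1 at px
  change y e1 = (1 : F) • e1 at py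
  change x e2 = (1 : F) • e2 + gx • e1 at qx
  change y e2 = (1 : F) • e2 + gy • e1 at qy
  rw [one_smul] at px py qx qy
  ext u
  obtain ⟨α, β, rfl⟩ := exists_coords hU he u
  change x (y (α • e1 + β • e2)) = y (x (α • e1 + β • e2))
  change Semi (1 : F ≃+* F) x at sx
  change Semi (1 : F ≃+* F) y at sy
  simp only [sy.add, sy.smul, sx.add, sx.smul, px, py, qx, qy, RingAut.one_apply]
  module

/-- If the two elements generate a non-solvable group, the eigenlines are different. -/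
theorem li_of_not_solv (hU : finrank F U = 2) {e1 e2 f1 f2 : U}
    (he : LinearIndependent F ![e1, e2]) (hf : LinearIndependent F ![f1, f2])
    {x1 x2 : Equiv.Perm U} (h1 : Semi (1 : F ≃+* F) x1) (h2 : Semi (1 : F ≃+* F) x2)
    {b a a' : F} (hb : b ≠ 0) (ha : a ≠ 0) (ha' : a' ≠ 0)
    (h11 : x1 e1 = b • e1) (h12 : x1 e2 = a • e2) (h21 : x2 f1 = b • f1) (h22 : x2 f2 = a' • f2)
    (hns : ¬ Group.IsSolvable ↥(Subgroup.closure ({x1, x2} : Set (Equiv.Perm U)))) :
    LinearIndependent F ![e1, f1] := by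
  have he0 : e1 ≠ 0 := by
    have := he.ne_zero 0
    simpa using this
  have hf0 : f1 ≠ 0 := by
    have := hf.ne_zero 0
    simpa using this
  rw [LinearIndependent.pair_iff' he0]
  intro lam hlam
  apply hns
  have hlam0 : lam ≠ 0 := by
    rintro rfl
    rw [zero_smul] at hlam
    exact hf0 hlam.symm
  have r2 : e1 = lam⁻¹ • f1 := by rw [← hlam, inv_smul_smul₀ hlam0]
  have r1 : x2 e1 = b • e1 := by
    rw [r2, h2.smul, h21, RingAut.one_apply, smul_comm]
  obtain ⟨μ, ν, hμν⟩ := exists_coords hU he f2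
  have hν : ν ≠ 0 := by
    rintro rfl
    rw [zero_smul, add_zero] at hμν
    rw [li2_iff] at hf
    have h1 := (hf μ (-lam) (by rw [hμν, ← hlam, smul_smul, smul_smul]; module)).2
    exact hlam0 (neg_eq_zero.1 h1)
  have r7 : ν⁻¹ * ν = 1 := inv_mul_cancel₀ hν
  have r4 : e2 = ν⁻¹ • f2 - (ν⁻¹ * μ) • e1 := by
    calc e2 = (1 : F) • e2 := (one_smul F e2).symm
      _ = (ν⁻¹ * ν) • e2 := by rw [r7]
      _ = ν⁻¹ • (μ • e1 + ν • e2) - (ν⁻¹ * μ) • e1 := by module
      _ = _ := by rw [← hμν]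
  have r5 : x2 e2 = a' • e2 + (ν⁻¹ * μ * (a' - b)) • e1 := by
    calc x2 e2 = x2 (ν⁻¹ • f2 - (ν⁻¹ * μ) • e1) := by rw [← r4]
      _ = ν⁻¹ • a' • f2 - (ν⁻¹ * μ) • b • e1 := by
        rw [h2.sub, h2.smul, h2.smul, h22, r1, RingAut.one_apply, RingAut.one_apply]
      _ = ν⁻¹ • a' • (μ • e1 + ν • e2) - (ν⁻¹ * μ) • b • e1 := by rw [← hμν]
      _ = ((ν⁻¹ * ν) * a') • e2 + (ν⁻¹ * μ * (a' - b)) • e1 := by module
      _ = _ := by rw [r7, one_mul]
  exact solv_borel hU he h1 h2 hb ha hb ha' h11 (g1 := 0)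
    (by rw [h12, zero_smul, add_zero]) r1 r5

theorem li_swap {e f : U} (h : LinearIndependent F ![e, f]) : LinearIndependent F ![f, e] := by
  rw [li2_iff] at h ⊢
  intro x y hxy
  obtain ⟨h1, h2⟩ := h y x (by rw [← hxy]; abel)
  exact ⟨h2, h1⟩

/-- One of two independent vectors is independent of `e`. -/
theorem li_or {e f1 f2 : U} (he : e ≠ 0) (hf : LinearIndependent F ![f1, f2])
    (h : ¬ LinearIndependent F ![e, f1]) : LinearIndependent F ![e, f2] := by
  have hf0 : f1 ≠ 0 := by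
    have := hf.ne_zero 0
    simpa using this
  rw [LinearIndependent.pair_iff' he] at h ⊢
  push Not at h
  obtain ⟨lam, hlam⟩ := h
  intro μ hμ
  have hlam0 : lam ≠ 0 := by
    rintro rfl
    rw [zero_smul] at hlam
    exact hf0 hlam.symm
  rw [li2_iff] at hf
  have h1 := (hf μ (-lam) (by rw [← hμ, ← hlam, smul_smul, smul_smul]; module)).2
  exact hlam0 (neg_eq_zero.1 h1)

end borel

variable {V : Type*} [AddCommGroup V] [Module F V] {τ : F ≃+* F} {c d : Equiv.Perm V}

/-- **The core of part (a).** -/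
theorem av_core [FiniteDimensional F V] (hc : Semi (1 : F ≃+* F) c) (hcF : FullDet F c) {v : V}
    (hv : LinearIndependent F ![c⁻¹ v, v, c v]) (hd : Semi τ d) {u0 u1 u2 : V} {b a a' : F}
    (hu : LinearIndependent F ![u0, u1, u2]) (h0 : d u0 = b • u0) (h1 : d u1 = a • u1)
    (h2 : d u2 = a' • u2)
    {U : Type*} [AddCommGroup U] [Module F U] (hU : finrank F U = 2) {x1 x2 : Equiv.Perm U}
    (hx1 : Semi τ x1) (hx2 : Semi τ x2)
    {e1 e2 f1 f2 : U} (he : LinearIndependent F ![e1, e2]) (hf : LinearIndependent F ![f1, f2])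
    (hef : LinearIndependent F ![e1, f1])
    (h11 : x1 e1 = b • e1) (h12 : x1 e2 = a • e2) (h21 : x2 f1 = b • f1) (h22 : x2 f2 = a' • f2)
    (hns : ¬ Group.IsSolvable ↥(Subgroup.closure ({x1, x2} : Set (Equiv.Perm U)))) :
    AV F c d := by
  have : FiniteDimensional F U := FiniteDimensional.of_finrank_pos (by omega)
  have hvli : LinearIndependent F ![v, c v] := by
    rw [li3_iff] at hv
    rw [li2_iff]
    intro x y h
    obtain ⟨-, h3, h4⟩ := hv 0 x y (by rw [zero_smul, zero_add]; exact h)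
    exact ⟨h3, h4⟩
  -- the embedding
  let B : Basis (Fin 2) F U := basisOfLinearIndependentOfCardEqFinrank hef
    (by rw [Fintype.card_fin, hU])
  have hB : ∀ i, B i = ![e1, f1] i := fun i => by
    rw [coe_basisOfLinearIndependentOfCardEqFinrank]
  let T : U →ₗ[F] V := B.constr F ![v, c v]
  have hTe : T e1 = v := by
    have := B.constr_basis F ![v, c v] 0
    rwa [hB] at this
  have hTf : T f1 = c v := by
    have := B.constr_basis F ![v, c v] 1
    rwa [hB] at this
  have hTi : Function.Injective T := by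
    rw [← LinearMap.ker_eq_bot, LinearMap.ker_eq_bot']
    intro u hu
    obtain ⟨x, y, rfl⟩ := exists_coords hU hef u
    rw [map_add, map_smul, map_smul, hTe, hTf] at hu
    rw [li2_iff] at hvli
    obtain ⟨hx, hy⟩ := hvli x y hu
    rw [hx, hy, zero_smul, zero_smul, add_zero]
  -- coordinates of `e2`, `f2`
  obtain ⟨x, y, hxy⟩ := exists_coords hU hef e2
  obtain ⟨x', y', hxy'⟩ := exists_coords hU hef f2
  have hy0 : y ≠ 0 := by
    rintro rfl
    rw [zero_smul, add_zero] at hxy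
    rw [li2_iff] at he
    have := (he x (-1) (by rw [hxy]; module)).2
    exact one_ne_zero (neg_eq_zero.1 this)
  have hx0 : x' ≠ 0 := by
    rintro rfl
    rw [zero_smul, zero_add] at hxy'
    rw [li2_iff] at hf
    have := (hf y' (-1) (by rw [hxy']; module)).2
    exact one_ne_zero (neg_eq_zero.1 this)
  have hw1 : T e2 = x • v + y • c v := by rw [hxy, map_add, map_smul, map_smul, hTe, hTf]
  have hw2 : T f2 = x' • v + y' • c v := by rw [hxy', map_add, map_smul, map_smul, hTe, hTf]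
  have hci : Semi (1 : F ≃+* F) c⁻¹ := by simpa using hc.inv
  have hw2' : c⁻¹ (T f2) = x' • c⁻¹ v + y' • v := by
    rw [hw2, hci.add, hci.smul, hci.smul, inv_apply_self]
    rfl
  have hli : LinearIndependent F ![v, T e2, c⁻¹ (T f2)] := by
    rw [li3_iff] at hv ⊢
    intro α β γ h
    rw [hw1, hw2'] at h
    obtain ⟨q1, q2, q3⟩ := hv (γ * x') (α + β * x + γ * y') (β * y) (by rw [← h]; module)
    have hγ : γ = 0 := (mul_eq_zero.1 q1).resolve_right hx0
    have hβ : β = 0 := (mul_eq_zero.1 q3).resolve_right hy0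
    subst hγ hβ
    exact ⟨by simpa using q2, rfl, rfl⟩
  obtain ⟨g, hg⟩ := Cfsg.Agent.H105.exists_equiv_of_indep hu hli
  have g0 : g u0 = v := hg 0
  have g1 : g u1 = T e2 := hg 1
  have g2 : g u2 = c⁻¹ (T f2) := hg 2
  refine AV.of_gl (Or.inl hcF) (g := g) ?_
  obtain ⟨d', hd'⟩ : ∃ d', d' = toA g * d * (toA g)⁻¹ := ⟨_, rfl⟩
  have hds : Semi τ d' := by rw [hd']; exact hd.conj g
  have hdg : ∀ w, d' (g w) = g (d w) := fun w => by
    rw [hd', Equiv.Perm.mul_apply, Equiv.Perm.mul_apply, toA_inv_apply, toA_apply]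
  rw [← hd']
  have k0 : d' v = b • v := by rw [← g0, hdg, h0, map_smul]
  have k1 : d' (T e2) = a • T e2 := by rw [← g1, hdg, h1, map_smul]
  have k2 : d' (c⁻¹ (T f2)) = a' • c⁻¹ (T f2) := by rw [← g2, hdg, h2, map_smul]
  intro hsol
  apply hns
  have hle : Subgroup.closure ({d', c * d' * c⁻¹} : Set (Equiv.Perm V)) ≤
      Subgroup.closure ({c, d'} : Set (Equiv.Perm V)) := by
    rw [Subgroup.closure_le]
    have m1 : c ∈ Subgroup.closure ({c, d'} : Set (Equiv.Perm V)) :=
      Subgroup.subset_closure (by simp)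
    have m2 : d' ∈ Subgroup.closure ({c, d'} : Set (Equiv.Perm V)) :=
      Subgroup.subset_closure (by simp)
    rintro z (rfl | hz)
    · exact m2
    · rw [Set.mem_singleton_iff] at hz
      rw [hz]
      exact mul_mem (mul_mem m1 m2) (inv_mem m1)
  refine solv_of_intertwine (T := T) hTi ?_ ?_ (isSolvable_of_le hle hsol)
  · intro u
    obtain ⟨α, β, rfl⟩ := exists_coords hU he u
    rw [map_add, map_smul, map_smul, hTe, hds.add, hds.smul, hds.smul, k0, k1, hx1.add, hx1.smul,
      hx1.smul, h11, h12, map_add, map_smul, map_smul, map_smul, map_smul, hTe]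
  · intro u
    obtain ⟨α, β, rfl⟩ := exists_coords hU hf u
    have q1 : (c * d' * c⁻¹) (T f1) = b • T f1 := by
      rw [Equiv.Perm.mul_apply, Equiv.Perm.mul_apply, hTf, inv_apply_self, k0, hc.smul]
      rfl
    have q2 : (c * d' * c⁻¹) (T f2) = a' • T f2 := by
      rw [Equiv.Perm.mul_apply, Equiv.Perm.mul_apply, k2, hc.smul, apply_inv_self]
      rfl
    have hs : Semi τ (c * d' * c⁻¹) := by
      have := (hc.mul hds).mul hci
      simpa using this
    rw [map_add, map_smul, map_smul, hs.add, hs.smul, hs.smul, q1, q2, hx2.add, hx2.smul,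
      hx2.smul, h21, h22, map_add, map_smul, map_smul, map_smul, map_smul]

end Cfsg.Agent.H869.S5
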