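import Cfsg.Agent.H869.S5.ACore
import Cfsg.Agent.H957.T5RowPSL

/-!
# Pairs of semilinear maps on `F ^ n` from the strong row of `PSL_n(F)` (S2274)
-/

set_option autoImplicit false

namespace Cfsg.Agent.H869.S5

open Matrix Module
open Cfsg.Agent.H957.T5V Cfsg.Agent.H957.T5Tr Cfsg.Agent.H957.T5Conf
open Cfsg.Agent.H199.PslAut Cfsg.Agent.H533.T5 Cfsg.Agent.H132.S5
open Cfsg.Agent.ClassicalGeometry.AutPSL.Root
open Cfsg.Agent.ClassicalGeometry.AutPSL.Auto
open Cfsg.Agent.H897.MeetPSL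
open Cfsg.Agent.H903.SylSemi (Ind scal scal_apply)

section psl

variable {F : Type} [Field F] {n p : ℕ}

theorem semi_rho (s : Matrix.SpecialLinearGroup (Fin n) F) : Semi (1 : F ≃+* F) (rho n F s) := by
  refine ⟨fun u v => ?_, fun b v => ?_⟩
  · rw [rho_apply, rho_apply, rho_apply, mulVec_add]
  · rw [rho_apply, rho_apply, mulVec_smul]
    rfl

theorem exists_sl_of_rho (s : Matrix.SpecialLinearGroup (Fin n) F) :
    ∃ g : (Fin n → F) ≃ₗ[F] (Fin n → F), LinearEquiv.det g = 1 ∧ toA g = rho n F s := by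
  obtain ⟨g, hg⟩ := exists_toA (semi_rho s)
  refine ⟨g, ?_, hg⟩
  apply Units.ext
  rw [LinearEquiv.coe_det, Units.val_one]
  have h1 : (g : (Fin n → F) →ₗ[F] (Fin n → F)) = Matrix.toLin' (s : Matrix (Fin n) (Fin n) F) := by
    ext v : 2
    have h2 := congrArg (fun f : Equiv.Perm (Fin n → F) => f (Pi.single v 1)) hg
    simp only [LinearMap.coe_comp, LinearMap.coe_single, Function.comp_apply]
    rw [Matrix.toLin'_apply]
    exact h2
  rw [h1, LinearMap.det_toLin', s.2]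

theorem exists_rho_of_sl (g : (Fin n → F) ≃ₗ[F] (Fin n → F)) (hg : LinearEquiv.det g = 1) :
    ∃ s : Matrix.SpecialLinearGroup (Fin n) F, rho n F s = toA g := by
  have hd : (LinearMap.toMatrix' (g : (Fin n → F) →ₗ[F] (Fin n → F))).det = 1 := by
    rw [LinearMap.det_toMatrix', ← LinearEquiv.coe_det, hg, Units.val_one]
  refine ⟨⟨LinearMap.toMatrix' (g : (Fin n → F) →ₗ[F] (Fin n → F)), hd⟩, ?_⟩
  ext v : 1
  refine (rho_apply _ v).trans ?_
  change (LinearMap.toMatrix' (g : (Fin n → F) →ₗ[F] (Fin n → F))) *ᵥ v = g v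
  rw [LinearMap.toMatrix'_mulVec]
  rfl

theorem psl_uniq (hn : 2 ≤ n) {y : Equiv.Perm (Fin n → F)} (hW : ∃ θ : F ≃+* F, Semi θ y)
    (hy : Ind (pr : Matrix.SpecialLinearGroup (Fin n) F →*
      Matrix.ProjectiveSpecialLinearGroup (Fin n) F) (rho n F) y 1) :
    ∃ a : Fˣ, y = scal F (Fin n → F) a := by
  have : Nonempty (Fin n) := ⟨⟨0, by omega⟩⟩
  obtain ⟨θ, hθ⟩ := hW
  obtain ⟨A, rfl⟩ := exists_smap (show Cfsg.Agent.H903.SylSemi.Semi F y θ from ⟨hθ.add, hθ.smul⟩)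
  have h1 : Psi n F A * phi n F θ = 1 :=
    Ind.unique pr_surjective rho_injective (ind_smap A θ) hy
  obtain ⟨⟨u, rfl⟩, h2⟩ := Psi_phi_eq hn (g := A) (σ := θ) (τ := 1) (by rw [h1, map_one])
  refine ⟨u, ?_⟩
  ext v : 1
  rw [smap_apply, h2, scal_apply, Cfsg.Agent.H199.PslAut.coe_scal]
  change (scalar (Fin n) (u : F)) *ᵥ v = (u : F) • v
  rw [Matrix.scalar_apply, Matrix.diagonal_const_mulVec]

/-- **The geometric form of the strong row of `PSL_n(F)`.** -/
theorem ab_of_srow [Finite F] (hn : 2 ≤ n) (hp : p.Prime)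
    (hrow : SRow p (Matrix.ProjectiveSpecialLinearGroup (Fin n) F)) {θ θ' : F ≃+* F}
    {y z : Equiv.Perm (Fin n → F)} (hy : Semi θ y) (hz : Semi θ' z) (hyp : IsScal F (y ^ p))
    (hyn : ¬ IsScal F y) (hzp : IsScal F (z ^ p)) (hzn : ¬ IsScal F z) :
    AV F y z ∧ BV F p y z := by
  have : Nonempty (Fin n) := ⟨⟨0, by omega⟩⟩
  have : Nontrivial (Fin n → F) := Function.nontrivial
  obtain ⟨⟨s, hs⟩, ⟨s', hs'⟩⟩ := sem_of_srow (F := F) hp (π := (pr :
      Matrix.SpecialLinearGroup (Fin n) F →* Matrix.ProjectiveSpecialLinearGroup (Fin n) F))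
    pr_surjective (ρ := rho n F) rho_injective semi_rho (W := fun y => ∃ θ : F ≃+* F, Semi θ y)
    (by
      rintro y ⟨θ, hθ⟩
      obtain ⟨A, rfl⟩ := exists_smap
        (show Cfsg.Agent.H903.SylSemi.Semi F y θ from ⟨hθ.add, hθ.smul⟩)
      exact ⟨_, ind_smap A θ⟩) (fun y hW hy => psl_uniq hn hW hy) hrow ⟨θ, hy⟩ ⟨θ', hz⟩ hyp hyn
    hzp hzn
  obtain ⟨g, hg, hgs⟩ := exists_sl_of_rho s
  obtain ⟨g', hg', hgs'⟩ := exists_sl_of_rho s'
  exact ⟨⟨g, hg, by rw [hgs]; exact hs⟩, ⟨g', hg', by rw [hgs']; exact hs'⟩⟩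

end psl

section two

variable {F : Type} [Field F] {p : ℕ}

/-- The map `(x, y) ↦ (a τ(x), b τ(y))`. -/
def dg (τ : F ≃+* F) (a b : Fˣ) : Equiv.Perm (Fin 2 → F) where
  toFun v := ![(a : F) * τ (v 0), (b : F) * τ (v 1)]
  invFun v := ![τ.symm ((a⁻¹ : Fˣ) * v 0), τ.symm ((b⁻¹ : Fˣ) * v 1)]
  left_inv v := by
    funext i
    fin_cases i <;> simp
  right_inv v := by
    funext i
    fin_cases i <;> simp

theorem dg_apply (τ : F ≃+* F) (a b : Fˣ) (v : Fin 2 → F) :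
    dg τ a b v = ![(a : F) * τ (v 0), (b : F) * τ (v 1)] := rfl

theorem semi_dg (τ : F ≃+* F) (a b : Fˣ) : Semi τ (dg τ a b) := by
  constructor
  · intro v w
    funext i
    fin_cases i
    · simp [dg_apply, mul_add]
    · simp [dg_apply, mul_add]
  · intro x v
    funext i
    fin_cases i
    · simp [dg_apply]; ring
    · simp [dg_apply]; ring

/-- standard basis -/
def b1 (F : Type) [Field F] : Fin 2 → F := ![1, 0]
def b2 (F : Type) [Field F] : Fin 2 → F := ![0, 1]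

theorem li_b : LinearIndependent F ![b1 F, b2 F] := by
  rw [li2_iff]
  intro x y h
  have h0 := congrFun h 0
  have h1 := congrFun h 1
  simp [b1, b2] at h0 h1
  exact ⟨h0, h1⟩

theorem dg_b1 (τ : F ≃+* F) (a b : Fˣ) : dg τ a b (b1 F) = (a : F) • b1 F := by
  funext i
  fin_cases i <;> simp [dg_apply, b1]

theorem dg_b2 (τ : F ≃+* F) (a b : Fˣ) : dg τ a b (b2 F) = (b : F) • b2 F := by
  funext i
  fin_cases i <;> simp [dg_apply, b2]

theorem finrank_two : finrank F (Fin 2 → F) = 2 := by simp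

theorem dg_pow_lin (a b : Fˣ) (m : ℕ) (v : Fin 2 → F) :
    (dg (1 : F ≃+* F) a b ^ m) v = ![(a : F) ^ m * v 0, (b : F) ^ m * v 1] := by
  induction m generalizing v with
  | zero =>
    funext i
    fin_cases i <;> simp
  | succ m ih =>
    rw [pow_succ, Equiv.Perm.mul_apply, ih]
    funext i
    fin_cases i
    · simp [dg_apply, pow_succ]; ring
    · simp [dg_apply, pow_succ]; ring

theorem dg_pow_field (τ : F ≃+* F) (m : ℕ) (v : Fin 2 → F) :
    (dg τ 1 1 ^ m) v = ![(τ ^ m) (v 0), (τ ^ m) (v 1)] := by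
  induction m generalizing v with
  | zero =>
    funext i
    fin_cases i <;> simp
  | succ m ih =>
    rw [pow_succ, Equiv.Perm.mul_apply, ih, pow_succ]
    funext i
    fin_cases i
    · simp [dg_apply, RingAut.mul_apply]
    · simp [dg_apply, RingAut.mul_apply]

theorem isScal_dg_pow {a b : Fˣ} (h : (a : F) ^ p = (b : F) ^ p) :
    IsScal F (dg (1 : F ≃+* F) a b ^ p) := by
  refine ⟨(a : F) ^ p, fun v => ?_⟩
  rw [dg_pow_lin, ← h]
  funext i
  fin_cases i <;> simp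

theorem not_isScal_dg {τ : F ≃+* F} {a b : Fˣ} (h : (a : F) ≠ b) : ¬ IsScal F (dg τ a b) := by
  rintro ⟨s, hs⟩
  have h1 := congrFun (hs (b1 F)) 0
  have h2 := congrFun (hs (b2 F)) 1
  simp [dg_apply, b1, b2] at h1 h2
  exact h (h1.trans h2.symm)

theorem isScal_dg_field {τ : F ≃+* F} (h : τ ^ p = 1) : IsScal F (dg τ 1 1 ^ p) := by
  refine ⟨1, fun v => ?_⟩
  rw [dg_pow_field, h, one_smul]
  funext i
  fin_cases i <;> simp

theorem not_isScal_field {τ : F ≃+* F} (h : τ ≠ 1) : ¬ IsScal F (dg τ 1 1) := by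
  rintro ⟨s, hs⟩
  apply h
  ext x
  have h1 := congrFun (hs (b1 F)) 0
  have h2 := congrFun (hs (x • b1 F)) 0
  simp [dg_apply, b1] at h1 h2
  rw [h2, ← h1, one_mul]
  rfl

end two

end Cfsg.Agent.H869.S5
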