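import Cfsg.Agent.H869.S5.AC2

/-!
# S2274, C2: pairs of semilinear maps on `F ^ p`, one of them of type `X ^ p - l` irreducible

`c2_main` : (a) and (b) for such pairs.
-/

set_option autoImplicit false

namespace Cfsg.Agent.H869.S5

open Module Finset
open Cfsg.Agent.H957.T5V Cfsg.Agent.H957.T5Tr Cfsg.Agent.H957.T5Conf Cfsg.Agent.H957.T5Pairs
open Cfsg.Agent.H957.T5Lin Cfsg.Agent.H957.T5Main
open Cfsg.Agent.H533.T5 Cfsg.Agent.H132.S5

section

variable {F : Type*} [Field F] {V : Type*} [AddCommGroup V] [Module F V] {p : ℕ} {τ : F ≃+* F}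
  {c d : Equiv.Perm V}

theorem dvd_of_not_pow [Finite F] (hp : p.Prime) {l : F} (hl : ∀ t : F, t ^ p ≠ l) :
    p ∣ Nat.card F - 1 := by
  classical
  have : Fintype F := Fintype.ofFinite F
  by_contra hq
  have hl0 : l ≠ 0 := by
    rintro rfl
    exact hl 0 (zero_pow hp.ne_zero)
  have hcop : (Nat.card Fˣ).Coprime p := by
    rw [Nat.card_eq_fintype_card, Fintype.card_units, ← Nat.card_eq_fintype_card]
    exact ((Nat.Prime.coprime_iff_not_dvd hp).2 hq).symm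
  obtain ⟨y, hy⟩ := (powCoprime hcop).surjective (Units.mk0 l hl0)
  apply hl y
  have := congrArg Units.val hy
  rwa [powCoprime_apply, Units.val_pow_eq_pow_val, Units.val_mk0] at this

theorem kry3_of_irr (hp : p.Prime) (hp3 : 3 ≤ p) [Nontrivial V] (hc : Semi (1 : F ≃+* F) c) {l : F}
    (hl : ∀ t : F, t ^ p ≠ l) (hcl : ∀ v, (c ^ p) v = l • v) : Kry3 F c := by
  obtain ⟨v0, hv0⟩ := exists_ne (0 : V)
  obtain ⟨f, hf, hfc⟩ := exists_end hc
  have h1 := li3_of_irr (f := (f : End F V)) hp hp3 hl (fun v => by rw [pow_end hf, hcl]) hv0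
  refine ⟨v0, ?_⟩
  rw [← hf v0, ← hf (f v0)]
  exact h1

theorem li_mid {w : V} (h : LinearIndependent F ![w, c w, c (c w)]) :
    LinearIndependent F ![c⁻¹ (c w), c w, c (c w)] := by
  rwa [inv_apply_self]

end

section

variable {F : Type} [Field F] {V : Type*} [AddCommGroup V] [Module F V] {p : ℕ} {τ : F ≃+* F}
  {c d : Equiv.Perm V}

/-- diagonalisable case -/
theorem c2_diag [Finite F] [FiniteDimensional F V] (hp : p.Prime) (hp5 : 5 ≤ p)
    (hV : 3 ≤ finrank F V) (hpF : (p : F) ≠ 0) (hq : p ∣ Nat.card F - 1)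
    (hrow : SRow p (Matrix.ProjectiveSpecialLinearGroup (Fin 2) F))
    (hc : Semi (1 : F ≃+* F) c) (hcF : FullDet F c) (hk : Kry3 F c)
    (hd : Semi (1 : F ≃+* F) d) (hdp : d ^ p = 1) (hdn : ¬ IsScal F d) :
    AV F c d ∧ BV F p c d := by
  have : Fact p.Prime := ⟨hp⟩
  obtain ⟨f, hf, hfc⟩ := exists_end hd
  have hfp : (f : End F V) ^ p = ((1 : F) ^ p) • 1 := by
    ext v
    rw [pow_end hf, hdp, one_pow, one_smul]
    rfl
  obtain ⟨b, a, hb⟩ := exists_eigenbasis hq one_ne_zero hfp (κ := Fin (finrank F V))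
    (Fintype.card_fin _)
  have hb' : ∀ i, d (b i) = a i • b i := fun i => by rw [← hf]; exact hb i
  have hap : ∀ i, a i ^ p = 1 := by
    intro i
    have h1 := Cfsg.Agent.H957.T5Two.pow_eigen hd (hb' i) p
    rw [hdp, Cfsg.Agent.H957.T5Two.nm_one] at h1
    have h2 : (a i ^ p - 1) • b i = 0 := by
      rw [sub_smul, one_smul, ← h1]
      exact sub_self _
    rcases smul_eq_zero.1 h2 with h | h
    · exact sub_eq_zero.1 h
    · exact absurd h (b.ne_zero i)
  refine ⟨?_, bv_diag_kry hpF hc hd hk b hb' hdn (Or.inr (Or.inl hcF))⟩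
  obtain ⟨w, hw⟩ := hk
  exact av_diag hp hrow hc hcF (li_mid hw) hd hV b hb' (fun i j => by rw [hap, hap]) hdn

/-- field case -/
theorem c2_field [Finite F] [FiniteDimensional F V] (hp : p.Prime)
    (hpF : (p : F) ≠ 0)
    (hrow : SRow p (Matrix.ProjectiveSpecialLinearGroup (Fin 2) F))
    (hc : Semi (1 : F ≃+* F) c) (hcF : FullDet F c) (hk : Kry3 F c)
    (hd : Semi τ d) (hτ : orderOf τ = p) (hdp : d ^ p = 1) :
    AV F c d ∧ BV F p c d := by
  refine ⟨?_, bv_field_kry hp hpF hc hd hk hτ hdp (Or.inr (Or.inl hcF))⟩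
  obtain ⟨w, hw⟩ := hk
  exact av_field hp hrow hc hcF (li_mid hw) hd hτ hdp

/-- **C2.** -/
theorem c2_main [Finite F] [FiniteDimensional F V] (hp : p.Prime) (hp5 : 5 ≤ p)
    (hV : finrank F V = p) (hpF : (p : F) ≠ 0)
    (hrow : SRow p (Matrix.ProjectiveSpecialLinearGroup (Fin 2) F))
    (hc : Semi (1 : F ≃+* F) c) {l : F} (hl : ∀ t : F, t ^ p ≠ l) (hcl : ∀ v, (c ^ p) v = l • v)
    (hd : Semi τ d) (hdp : IsScal F (d ^ p)) (hdn : ¬ IsScal F d) :
    (AV F c d ∨ ∃ g : V ≃ₗ[F] V, LinearEquiv.det g = 1 ∧ ∃ j : ℕ,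
      Scl F ((toA g * d * (toA g)⁻¹) ^ j) c) ∧ BV F p c d := by
  have : Nontrivial V := nontrivial_of_finrank_pos (R := F) (by rw [hV]; exact hp.pos)
  have hq := dvd_of_not_pow hp hl
  have hk := kry3_of_irr hp (by omega) hc hl hcl
  have hcF : FullDet F c := fullDet_lin hpF hc ⟨l, hcl⟩
  obtain ⟨l', hdl⟩ := hdp
  have hl0' : l' ≠ 0 := by
    rintro rfl
    obtain ⟨v, hv⟩ := exists_ne (0 : V)
    have h1 := hdl v
    rw [zero_smul] at h1
    exact hv ((d ^ p).injective (h1.trans (hd.pow p).zero.symm))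
  by_cases hτ : τ = 1
  · subst hτ
    by_cases ht : ∃ t : F, t ^ p = l'
    · obtain ⟨t, ht⟩ := ht
      have ht0 : t ≠ 0 := by
        rintro rfl
        rw [zero_pow hp.ne_zero] at ht
        exact hl0' ht.symm
      have hdp1 : (smulA (Units.mk0 t ht0)⁻¹ d) ^ p = 1 := by
        ext v
        rw [smulA_pow_lin hd, hdl, smul_smul, Units.val_inv_eq_inv_val, Units.val_mk0, ← ht,
          ← mul_pow, inv_mul_cancel₀ ht0, one_pow, one_smul]
        rfl
      obtain ⟨hA, hB⟩ := c2_diag hp hp5 (by omega) hpF hq hrow hc hcF hk (hd.smulA _) hdp1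
        (not_isScal_smulA hdn)
      exact ⟨Or.inl (hA.of_scl hc hd (Scl.refl c) (scl_smulA _ d)),
        hB.of_scl hc hd (Scl.refl c) (scl_smulA _ d)⟩
    · push Not at ht
      exact ⟨Or.inr (al_irr hp hpF hV hc hd hl ht hcl hdl),
        bv_K' hpF hc hd hk (kry3_of_irr hp (by omega) hd ht hdl) (Or.inr (Or.inl hcF))⟩
  · obtain ⟨s, hs⟩ := exists_nf hp hp5 hd ⟨l', hdl⟩
    rcases hs with ⟨h, -⟩ | ⟨h, -⟩ | ⟨ho, hs⟩
    · exact absurd h hτ
    · exact absurd h hτ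
    · obtain ⟨hA, hB⟩ := c2_field hp hpF hrow hc hcF hk (hd.smulA s) ho hs
      exact ⟨Or.inl (hA.of_scl hc hd (Scl.refl c) (scl_smulA _ d)),
        hB.of_scl hc hd (Scl.refl c) (scl_smulA _ d)⟩

end

end Cfsg.Agent.H869.S5
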