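import Cfsg.Agent.H869.S5.AB
import Cfsg.Agent.H106.MTools2

/-!
# Translation between semilinear maps and automorphisms, strong pairs (S2274)

`srow_of_sem` : the strong row of `T = π(X)` from the geometric statements about pairs.
`solv_up`, `solv_down` : solvability of `⟨y, z⟩` and of `⟨c, d⟩` if `y`, `z` induce `c`, `d`.
-/

set_option autoImplicit false

universe u

namespace Cfsg.Agent.H869.S5

open Cfsg.Agent.H957.T5V Cfsg.Agent.H957.T5Tr
open Cfsg.Agent.H533.T5 Cfsg.Agent.H132.S5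
open Cfsg.Agent.H903.SylSemi (Ind scal scal_apply)

section prod

variable {A B : Type*} [Group A] [Group B]

theorem closure_fst (a a' : A) (b b' : B) :
    (Subgroup.closure ({(a, b), (a', b')} : Set (A × B))).map (MonoidHom.fst A B)
      = Subgroup.closure ({a, a'} : Set A) :=
  closure_pair_map (MonoidHom.fst A B) (a, b) (a', b')

theorem closure_snd (a a' : A) (b b' : B) :
    (Subgroup.closure ({(a, b), (a', b')} : Set (A × B))).map (MonoidHom.snd A B)
      = Subgroup.closure ({b, b'} : Set B) :=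
  closure_pair_map (MonoidHom.snd A B) (a, b) (a', b')

/-- A subgroup `D` of `A × B` whose intersection with `A` is commutative and whose projection to
`B` is solvable is solvable; so its projection to `A` is solvable. -/
theorem solv_of_prod {D : Subgroup (A × B)}
    (hB : Group.IsSolvable ↥(D.map (MonoidHom.snd A B)))
    (hc : ∀ x y : A, (x, 1) ∈ D → (y, 1) ∈ D → x * y = y * x) :
    Group.IsSolvable ↥(D.map (MonoidHom.fst A B)) := by
  have h1 : Group.IsSolvable ↥D := by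
    let f : ↥D →* ↥(D.map (MonoidHom.snd A B)) := (MonoidHom.snd A B).subgroupMap D
    have hk : Group.IsSolvable ↥f.ker := by
      refine Group.isSolvable_of_comm ?_
      rintro ⟨⟨⟨x, b⟩, hx⟩, hx'⟩ ⟨⟨⟨y, b'⟩, hy⟩, hy'⟩
      have e1 : b = 1 := congrArg Subtype.val (MonoidHom.mem_ker.1 hx')
      have e2 : b' = 1 := congrArg Subtype.val (MonoidHom.mem_ker.1 hy')
      subst e1 e2
      apply Subtype.ext
      apply Subtype.ext
      exact Prod.ext (hc x y hx hy) rfl
    exact Group.isSolvable_of_ker_le_range f.ker.subtype f (by rw [Subgroup.range_subtype])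
  exact Group.isSolvable_of_surjective (f := (MonoidHom.fst A B).subgroupMap D)
    ((MonoidHom.fst A B).subgroupMap_surjective D)

theorem solv_of_prod' {D : Subgroup (A × B)}
    (hA : Group.IsSolvable ↥(D.map (MonoidHom.fst A B)))
    (hc : ∀ x : B, (1, x) ∈ D → x = 1) :
    Group.IsSolvable ↥(D.map (MonoidHom.snd A B)) := by
  have h1 : Group.IsSolvable ↥D := by
    let f : ↥D →* ↥(D.map (MonoidHom.fst A B)) := (MonoidHom.fst A B).subgroupMap D
    refine Group.isSolvable_of_isSolvable_injective (f := f) ?_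
    rw [injective_iff_map_eq_one]
    rintro ⟨⟨a, x⟩, hx⟩ hx'
    have e1 : a = 1 := congrArg Subtype.val hx'
    subst e1
    have e2 := hc x hx
    subst e2
    rfl
  exact Group.isSolvable_of_surjective (f := (MonoidHom.snd A B).subgroupMap D)
    ((MonoidHom.snd A B).subgroupMap_surjective D)

end prod

section ind

variable {F : Type*} [Field F] {V : Type*} [AddCommGroup V] [Module F V]
  {T : Type*} [Group T] {X : Type*} [Group X] {π : X →* T} {ρ : X →* Equiv.Perm V}

/-- The maps satisfying `W` with the induced automorphisms. -/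
theorem mem_closure_ind [Finite V] [Finite T] {W : Equiv.Perm V → Prop}
    (hW1 : W 1) (hWmul : ∀ y y', W y → W y' → W (y * y'))
    {y z : Equiv.Perm V} {c d : MulAut T} (hy : W y) (hz : W z)
    (hyc : Ind π ρ y c) (hzd : Ind π ρ z d) {x : Equiv.Perm V × MulAut T}
    (hx : x ∈ Subgroup.closure ({(y, c), (z, d)} : Set (Equiv.Perm V × MulAut T))) :
    W x.1 ∧ Ind π ρ x.1 x.2 := by
  have hpow : ∀ (a : Equiv.Perm V), W a → ∀ m : ℕ, W (a ^ m) := by
    intro a ha m
    induction m with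
    | zero => simpa using hW1
    | succ m ih => rw [pow_succ]; exact hWmul _ _ ih ha
  induction hx using Subgroup.closure_induction with
  | mem x hx =>
    rcases hx with rfl | hx
    · exact ⟨hy, hyc⟩
    · rw [Set.mem_singleton_iff] at hx
      subst hx
      exact ⟨hz, hzd⟩
  | one => exact ⟨hW1, Ind.one π ρ⟩
  | mul x x' _ _ hx hx' => exact ⟨hWmul _ _ hx.1 hx'.1, hx.2.mul hx'.2⟩
  | inv x _ hx =>
    refine ⟨?_, hx.2.inv⟩
    have h1 : x.1⁻¹ = x.1 ^ (orderOf x.1 - 1) := by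
      have ho := orderOf_pos x.1
      rw [inv_eq_iff_mul_eq_one, ← pow_succ', Nat.sub_add_cancel ho, pow_orderOf_eq_one]
    change W x.1⁻¹
    rw [h1]
    exact hpow _ hx.1 _

/-- If `⟨c, d⟩` is solvable then so is `⟨y, z⟩`. -/
theorem solv_up [Finite V] [Finite T] {W : Equiv.Perm V → Prop}
    (hW1 : W 1) (hWmul : ∀ y y', W y → W y' → W (y * y'))
    (huniq : ∀ y, W y → Ind π ρ y 1 → ∃ a : Fˣ, y = scal F V a)
    {y z : Equiv.Perm V} {c d : MulAut T} (hy : W y) (hz : W z)
    (hyc : Ind π ρ y c) (hzd : Ind π ρ z d)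
    (h : Group.IsSolvable ↥(Subgroup.closure ({c, d} : Set (MulAut T)))) :
    Group.IsSolvable ↥(Subgroup.closure ({y, z} : Set (Equiv.Perm V))) := by
  rw [← closure_snd y z c d] at h
  have h1 := solv_of_prod h (by
    intro a b ha hb
    obtain ⟨h1, h2⟩ := mem_closure_ind hW1 hWmul hy hz hyc hzd ha
    obtain ⟨h3, h4⟩ := mem_closure_ind hW1 hWmul hy hz hyc hzd hb
    obtain ⟨u, rfl⟩ := huniq a h1 h2
    obtain ⟨v, rfl⟩ := huniq b h3 h4
    rw [← map_mul, ← map_mul, mul_comm])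
  rwa [closure_fst] at h1

/-- If `⟨y, z⟩` is solvable then so is `⟨c, d⟩`. -/
theorem solv_down [Finite V] [Finite T] (hπ : Function.Surjective π) (hρ : Function.Injective ρ)
    {y z : Equiv.Perm V} {c d : MulAut T}
    (hyc : Ind π ρ y c) (hzd : Ind π ρ z d)
    (h : Group.IsSolvable ↥(Subgroup.closure ({y, z} : Set (Equiv.Perm V)))) :
    Group.IsSolvable ↥(Subgroup.closure ({c, d} : Set (MulAut T))) := by
  rw [← closure_fst y z c d] at h
  have h1 := solv_of_prod' h (by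
    intro x hx
    obtain ⟨h1, h2⟩ := mem_closure_ind (W := fun _ => True) trivial (fun _ _ _ _ => trivial)
      trivial trivial hyc hzd hx
    exact Ind.unique hπ hρ h2 (Ind.one π ρ))
  rwa [closure_snd] at h1

end ind

section row

variable {F : Type*} [Field F] {V : Type*} [AddCommGroup V] [Module F V]
  {T : Type u} [Group T] {X : Type*} [Group X]

/-- **The strong row from the geometric statements about pairs.** In part (a) it is enough that
some conjugate of some power of the second map is proportional to the first one. -/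
theorem srow_of_sem [Nontrivial V] [Finite V] [Finite T] [IsSimpleGroup T]
    (hna : ¬ IsMulCommutative T) {p : ℕ} (hp : p.Prime) (hRS : RSHyp.{u} p)
    {π : X →* T} (hπ : Function.Surjective π)
    {ρ : X →* Equiv.Perm V} (hρ : Function.Injective ρ)
    (hρlin : ∀ s : X, Semi (1 : F ≃+* F) (ρ s))
    {W : Equiv.Perm V → Prop} (hWmul : ∀ y y', W y → W y' → W (y * y')) (hWρ : ∀ s : X, W (ρ s))
    (hind : ∀ c : MulAut T, orderOf c = p → ∃ y, W y ∧ Ind π ρ y c)
    (huniq : ∀ y, W y → Ind π ρ y 1 → ∃ a : Fˣ, y = scal F V a)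
    (hA : ∀ y z, W y → W z → IsScal F (y ^ p) → ¬ IsScal F y → IsScal F (z ^ p) →
      ¬ IsScal F z → (∃ s : X, ¬ Group.IsSolvable
          ↥(Subgroup.closure ({y, ρ s * z * (ρ s)⁻¹} : Set (Equiv.Perm V)))) ∨
        (∃ s : X, ∃ j : ℕ, Scl F ((ρ s * z * (ρ s)⁻¹) ^ j) y))
    (hB : ∀ y z, W y → W z → IsScal F (y ^ p) → ¬ IsScal F y → IsScal F (z ^ p) →
      ¬ IsScal F z → ∃ s : X, ∀ k : ℕ, ¬ IsScal F ((y * (ρ s * z * (ρ s)⁻¹)) ^ p ^ k)) :
    SRow p T := by
  have hW1 : W 1 := by simpa using hWρ 1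
  have hWpow : ∀ y, W y → ∀ m : ℕ, W (y ^ m) := by
    intro y hy m
    induction m with
    | zero => simpa using hW1
    | succ m ih => rw [pow_succ]; exact hWmul _ _ ih hy
  have helt : ∀ c : MulAut T, orderOf c = p → ∀ y, W y → Ind π ρ y c →
      IsScal F (y ^ p) ∧ ¬ IsScal F y := by
    intro c hc y hy hyc
    constructor
    · have h1 := hyc.pow p
      have h2 : c ^ p = 1 := by rw [← hc, pow_orderOf_eq_one]
      rw [h2] at h1
      obtain ⟨a, ha⟩ := huniq _ (hWpow y hy p) h1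
      rw [ha]
      exact isScal_scal a
    · intro hs
      obtain ⟨a, rfl⟩ := exists_scal hs
      have h1 : c = 1 := Ind.unique hπ hρ hyc (ind_scal hρlin a)
      rw [h1, orderOf_one] at hc
      exact hp.one_lt.ne hc
  intro c d hc hd
  obtain ⟨y, hy, hyc⟩ := hind c hc
  obtain ⟨z, hz, hzd⟩ := hind d hd
  obtain ⟨hyp, hyn⟩ := helt c hc y hy hyc
  obtain ⟨hzp, hzn⟩ := helt d hd z hz hzd
  have hcj : ∀ s : X, W (ρ s * z * (ρ s)⁻¹) ∧
      Ind π ρ (ρ s * z * (ρ s)⁻¹) (MulAut.conj (π s) * d * (MulAut.conj (π s))⁻¹) := by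
    intro s
    have e1 : (ρ s)⁻¹ = ρ s⁻¹ := (map_inv ρ s).symm
    have e2 : (MulAut.conj (π s))⁻¹ = MulAut.conj (π s⁻¹) := by rw [map_inv π, map_inv]
    rw [e1, e2]
    exact ⟨hWmul _ _ (hWmul _ _ (hWρ s) hz) (hWρ s⁻¹),
      ((Ind.conj π ρ s).mul hzd).mul (Ind.conj π ρ s⁻¹)⟩
  refine SPair.mk' hp ?_ ?_
  · rcases hA y z hy hz hyp hyn hzp hzn with ⟨s, h⟩ | ⟨s, j, h⟩
    · refine ⟨MulAut.conj (π s), ⟨π s, rfl⟩, fun hsol => h ?_⟩
      exact solv_up hW1 hWmul huniq hy (hcj s).1 hyc (hcj s).2 hsol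
    · have hI := Cfsg.Agent.H533.T5.conj_range_normal (S := T)
      refine APair.of_aligned (R := (MulAut.conj : T →* MulAut T).range) hRS le_rfl hc
        (fun r hr => hI.conj_mem _ hr c) (s := MulAut.conj (π s)) ⟨π s, rfl⟩ (j : ℤ) (h := 1)
        (Commute.one_right _) (fun r _ => Commute.one_right _) ?_
        (Cfsg.Agent.H106.MT.not_solvable_inn hna ?_)
      · rw [mul_one, zpow_natCast]
        have h1 := (hcj s).2.pow j
        obtain ⟨t, ht, h⟩ := h
        have h2 : (ρ s * z * (ρ s)⁻¹) ^ j = scal F V (Units.mk0 t ht) * y := by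
          ext v
          rw [h, Equiv.Perm.mul_apply, scal_apply, Units.val_mk0]
        rw [h2] at h1
        have h3 := (ind_scal (π := π) hρlin (Units.mk0 t ht)).mul hyc
        rw [one_mul] at h3
        exact Ind.unique hπ hρ h1 h3
      · rintro rfl
        rw [orderOf_one] at hc
        exact hp.one_lt.ne hc
  · obtain ⟨s, h⟩ := hB y z hy hz hyp hyn hzp hzn
    refine ⟨MulAut.conj (π s), ⟨π s, rfl⟩, fun k hk => h k ?_⟩
    have h1 := (hyc.mul (hcj s).2).pow (p ^ k)
    rw [hk] at h1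
    obtain ⟨a, ha⟩ := huniq _ (hWpow _ (hWmul _ _ hy (hcj s).1) _) h1
    rw [ha]
    exact isScal_scal a

/-- **From the strong row to the geometric statements.** -/
theorem sem_of_srow [Nontrivial V] [Finite V] [Finite T] {p : ℕ} (hp : p.Prime)
    {π : X →* T} (hπ : Function.Surjective π)
    {ρ : X →* Equiv.Perm V} (hρ : Function.Injective ρ)
    (hρlin : ∀ s : X, Semi (1 : F ≃+* F) (ρ s))
    {W : Equiv.Perm V → Prop}
    (hind : ∀ y, W y → ∃ c : MulAut T, Ind π ρ y c)
    (huniq : ∀ y, W y → Ind π ρ y 1 → ∃ a : Fˣ, y = scal F V a)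
    (hrow : SRow p T) {y z : Equiv.Perm V} (hy : W y) (hz : W z) (hyp : IsScal F (y ^ p))
    (hyn : ¬ IsScal F y) (hzp : IsScal F (z ^ p)) (hzn : ¬ IsScal F z) :
    (∃ s : X, ¬ Group.IsSolvable
          ↥(Subgroup.closure ({y, ρ s * z * (ρ s)⁻¹} : Set (Equiv.Perm V)))) ∧
    (∃ s : X, ∀ k : ℕ, ¬ IsScal F ((y * (ρ s * z * (ρ s)⁻¹)) ^ p ^ k)) := by
  have helt : ∀ y : Equiv.Perm V, W y → IsScal F (y ^ p) → ¬ IsScal F y →
      ∀ c : MulAut T, Ind π ρ y c → orderOf c = p := by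
    intro y hy hyp hyn c hyc
    have : Fact p.Prime := ⟨hp⟩
    refine orderOf_eq_prime ?_ ?_
    · obtain ⟨a, ha⟩ := exists_scal hyp
      have h1 := hyc.pow p
      rw [ha] at h1
      exact Ind.unique hπ hρ h1 (ind_scal hρlin a)
    · rintro rfl
      obtain ⟨a, rfl⟩ := huniq y hy hyc
      exact hyn (isScal_scal a)
  obtain ⟨c, hyc⟩ := hind y hy
  obtain ⟨d, hzd⟩ := hind z hz
  obtain ⟨hA, hB⟩ := (spair_iff hp).1 (hrow c d (helt y hy hyp hyn c hyc) (helt z hz hzp hzn d hzd))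
  have hcj : ∀ s : X,
      Ind π ρ (ρ s * z * (ρ s)⁻¹) (MulAut.conj (π s) * d * (MulAut.conj (π s))⁻¹) := by
    intro s
    have e1 : (ρ s)⁻¹ = ρ s⁻¹ := (map_inv ρ s).symm
    have e2 : (MulAut.conj (π s))⁻¹ = MulAut.conj (π s⁻¹) := by rw [map_inv π, map_inv]
    rw [e1, e2]
    exact ((Ind.conj π ρ s).mul hzd).mul (Ind.conj π ρ s⁻¹)
  constructor
  · obtain ⟨_, ⟨t, rfl⟩, h⟩ := hA
    obtain ⟨s, rfl⟩ := hπ t
    exact ⟨s, fun hs => h (solv_down hπ hρ hyc (hcj s) hs)⟩
  · obtain ⟨_, ⟨t, rfl⟩, h⟩ := hB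
    obtain ⟨s, rfl⟩ := hπ t
    refine ⟨s, fun k hk => h k ?_⟩
    have h1 := (hyc.mul (hcj s)).pow (p ^ k)
    obtain ⟨a, ha⟩ := exists_scal hk
    rw [ha] at h1
    exact Ind.unique hπ hρ h1 (ind_scal hρlin a)

end row

end Cfsg.Agent.H869.S5
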